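import Cfsg.Agent.Lib.QuasiFour.Homocyclic
import Cfsg.Agent.Lib.Block.HomocyclicTwo
import Cfsg.Agent.Lib.ProdFusion.Main
import Cfsg.Agent.Lib.Fusion.Abelian

/-!
# Simple groups with an abelian Sylow two-subgroup having an invariant subgroup of index four
-/

set_option autoImplicit false
set_option linter.unusedSectionVars false

namespace CfsgLib.QuasiFour

open Subgroup

universe u

variable {G : Type u} [Group G] [Finite G]

/-- The Sylow subgroup has order four. -/
theorem card_eq_four_of_abelian [IsSimpleGroup G] (hna : ¬ IsMulCommutative G) (P : Sylow 2 G)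
    (hab : ∀ a ∈ (P : Subgroup G), ∀ b ∈ (P : Subgroup G), a * b = b * a) (M : Subgroup G)
    (hMP : M ≤ (P : Subgroup G)) (hM : M.relIndex (P : Subgroup G) = 4)
    (hsq : ∀ a ∈ (P : Subgroup G), a ^ 2 ∈ M)
    (hMinv : ∀ n ∈ normalizer ((P : Subgroup G) : Set G), ∀ m ∈ M, n * m * n⁻¹ ∈ M) :
    Nat.card P = 4 := by
  classical
  letI cg : CommGroup (P : Subgroup G) :=
    { (inferInstance : Group (P : Subgroup G)) with mul_comm := fun a b => Subtype.ext (hab a a.2 b b.2) }
  have hntop : ∀ N : Subgroup G, N.Normal → (N = ⊥ ∨ N = ⊤) := fun N hN =>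
    IsSimpleGroup.eq_bot_or_eq_top_of_normal N hN
  have hncomm : ∀ N : Subgroup G, (∀ a ∈ N, ∀ b ∈ N, a * b = b * a) → N ≠ ⊤ := fun N h e =>
    hna ⟨⟨fun a b => h a (e ▸ mem_top a) b (e ▸ mem_top b)⟩⟩
  have hPtop : (P : Subgroup G) ≠ ⊤ := hncomm _ hab
  have h4dvd : 4 ∣ Nat.card (P : Subgroup G) := by
    rw [← hM]
    exact index_dvd_card (M.subgroupOf (P : Subgroup G))
  have hO : ∀ N : Subgroup G, N.Normal → Odd (Nat.card N) → N = ⊥ := fun N hN hNo =>
    (hntop N hN).resolve_right fun e => by
      rw [e, card_top, ← card_mul_index (P : Subgroup G)] at hNo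
      exact absurd hNo (Nat.not_odd_iff_even.2 (Nat.even_mul.2 (Or.inl
        (even_iff_two_dvd.2 (dvd_trans (by norm_num) h4dvd)))))
  set f := (P : Subgroup G).normalizerMonoidHom with hf
  have hval : ∀ (n : normalizer ((P : Subgroup G) : Set G)) (x : (P : Subgroup G)),
      ((f n x : (P : Subgroup G)) : G) = n * x * (n : G)⁻¹ := fun n x => rfl
  have hPC : (P : Subgroup G) ≤ centralizer ((P : Subgroup G) : Set G) := fun a ha =>
    mem_centralizer_iff.mpr fun b hb => hab b hb a ha
  have hrel : (centralizer ((P : Subgroup G) : Set G)).relIndex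
      (normalizer ((P : Subgroup G) : Set G)) = Nat.card f.range := by
    rw [← index_ker, hf, normalizerMonoidHom_ker]
    rfl
  have hodd : Odd (Nat.card f.range) := by
    rw [← Nat.not_even_iff_odd, even_iff_two_dvd, ← hrel]
    exact fun h => P.not_dvd_index ((h.trans (relIndex_dvd_of_le_left _ hPC)).trans
      (relIndex_mul_index (le_normalizer (H := (P : Subgroup G))) ▸ dvd_mul_right _ _))
  -- no decomposition
  have sc : ∀ S : Subgroup (P : Subgroup G), Inv f.range S →
      Cfsg.IsStronglyClosed (S.map (P : Subgroup G).subtype) (P : Subgroup G) := by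
    intro S hS
    refine ⟨map_subtype_le S, ?_⟩
    rintro _ ⟨x, hx, rfl⟩ g hg
    obtain ⟨n, hn, e⟩ := Fusion.exists_normalizer_conj_eq_of_central P (x := (x : G))
      (fun u hu => mem_centralizer_singleton_iff.2 (hab u hu x x.2)) g
      (fun u hu => mem_centralizer_singleton_iff.2 (hab u hu _ hg))
    exact ⟨f ⟨n, hn⟩ x, hS _ ⟨⟨n, hn⟩, rfl⟩ x hx, by
      show ((f ⟨n, hn⟩ x : (P : Subgroup G)) : G) = g * x * g⁻¹
      rw [hval]; exact e⟩
  have hind : Indec f.range := by
    intro S T hS hT hd _
    have hd' : S.map (P : Subgroup G).subtype ⊓ T.map (P : Subgroup G).subtype = ⊥ := by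
      rw [← map_inf _ _ _ (subtype_injective _), hd, Subgroup.map_bot]
    have h := ProdFusion.commutator_normalClosure_le P (sc S hS) (sc T hT)
      (fun a ha b hb => hab a (map_subtype_le S ha) b (map_subtype_le T hb)) hd'
    have hO' : Cfsg.pPrimeCore 2 G = ⊥ := by
      have hn : (Cfsg.pPrimeCore 2 G).Normal := by
        rw [Coprime.pPrimeCore_eq_piCore Nat.prime_two]; infer_instance
      exact hO _ hn (Nat.coprime_two_right.mp (Coprime.pPrimeCore_coprime Nat.prime_two))
    rw [hO', le_bot_iff] at h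
    rcases hntop _ (normalClosure_normal (s := ((S.map (P : Subgroup G).subtype) : Set G))) with e | e
    · refine Or.inl ((map_eq_bot_iff_of_injective S (subtype_injective _)).1 (le_bot_iff.1 ?_))
      rw [← e]; exact subset_normalClosure
    rcases hntop _ (normalClosure_normal (s := ((T.map (P : Subgroup G).subtype) : Set G))) with e' | e'
    · refine Or.inr ((map_eq_bot_iff_of_injective T (subtype_injective _)).1 (le_bot_iff.1 ?_))
      rw [← e']; exact subset_normalClosure
    rw [e, e'] at h
    exact absurd rfl (hncomm ⊤ fun a _ b _ =>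
      commutatorElement_eq_one_iff_mul_comm.1 (mem_bot.1 (h ▸ commutator_mem_commutator (mem_top a) (mem_top b))))
  have hne : f.range ≠ ⊥ := fun e => by
    have hcen : normalizer ((P : Subgroup G) : Set G) ≤ centralizer ((P : Subgroup G) : Set G) :=
      relIndex_eq_one.1 (hrel.trans (by rw [e, card_bot]))
    exact hPtop (Block.HomocyclicTwo.eq_sylow_of_central hO P ⊤ le_top (inf_le_right.trans hcen)).symm
  have h4 : Nat.card {x : (P : Subgroup G) // x ^ 2 = 1} = 4 := by
    refine card_four_torsion P.2 f.range hodd hne hind (M.subgroupOf (P : Subgroup G)) ?_ hM ?_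
    · rintro _ ⟨n, rfl⟩ x hx
      rw [mem_subgroupOf, hval]
      exact hMinv n n.2 _ hx
    · intro a
      exact hsq a a.2
  have h4le : 4 ≤ Nat.card (P : Subgroup G) := h4 ▸ Finite.card_subtype_le _
  by_contra hne4
  obtain ⟨hn, -, -⟩ := Block.HomocyclicTwo.normal_of_fourTorsion G P hab h4 (by omega) hO
  rcases hntop _ hn with e | e
  · rw [e, card_bot] at h4le; omega
  · exact hPtop e

end CfsgLib.QuasiFour
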