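import Cfsg.Agent.Lib.QuasiFour.Quotient
import Cfsg.Agent.S2116

/-!
# Quasisimple groups: the centre has odd order
-/

set_option autoImplicit false
set_option linter.unusedSectionVars false

namespace CfsgLib.QuasiFour

open Subgroup

universe u

variable {G : Type u} [Group G] [Finite G]

/-- The restriction of the central quotient to a Sylow subgroup meeting the centre trivially. -/
noncomputable def sylowQuotEquiv (P : Sylow 2 G) (hW : (P : Subgroup G) ⊓ center G = ⊥) :
    (P : Subgroup G) ≃* ↥((P.mapSurjective (QuotientGroup.mk'_surjective (center G)) :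
      Sylow 2 (G ⧸ center G)) : Subgroup (G ⧸ center G)) := by
  refine (MonoidHom.ofInjective (f := (QuotientGroup.mk' (center G)).comp (P : Subgroup G).subtype) ?_).trans
    (MulEquiv.subgroupCongr (by rw [Sylow.coe_mapSurjective, MonoidHom.range_comp, range_subtype]))
  rw [← MonoidHom.ker_eq_bot_iff, eq_bot_iff]
  intro z hz
  rw [mem_bot]
  refine Subtype.ext (mem_bot.1 ?_)
  rw [← hW]
  exact mem_inf.2 ⟨z.2, (QuotientGroup.eq_one_iff _).1 hz⟩

/-- A quasisimple group with central quotient `A₇` and centre of odd order. -/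
theorem alt_seven_cover (hq : Cfsg.IsQuasisimple G) (hodd : Odd (Nat.card (center G)))
    (e7 : G ⧸ center G ≃* alternatingGroup (Fin 7)) :
    Nonempty (G ≃* alternatingGroup (Fin 7)) ∨
      (Nat.card (center G) = 3 ∧ Nonempty (G ⧸ center G ≃* alternatingGroup (Fin 7))) := by
  classical
  have h6 : Nat.card (center G) ∣ 6 := by
    obtain ⟨T, ⟨eq⟩⟩ : ∃ T : Type, Nonempty (G ≃ T) :=
      (Finite.exists_equiv_fin G).elim fun n h => ⟨Fin n, h⟩
    haveI : Finite T := Finite.of_equiv G eq
    letI : Group T := eq.symm.group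
    let e : G ≃* T := eq.symm.mulEquiv.symm
    let σ : T →* alternatingGroup (Fin 7) :=
      (e7.toMonoidHom.comp (QuotientGroup.mk' (center G))).comp e.symm.toMonoidHom
    have hk : σ.ker = (center G).map e.toMonoidHom := by
      ext x
      rw [MonoidHom.mem_ker, mem_map_equiv]
      show e7 ((e.symm x : G) : G ⧸ center G) = 1 ↔ _
      rw [e7.map_eq_one_iff, QuotientGroup.eq_one_iff]
    have hσ : Cfsg.IsStemExtension σ := by
      refine ⟨e7.surjective.comp ((QuotientGroup.mk'_surjective _).comp e.symm.surjective), ?_, ?_⟩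
      · rw [hk]
        rintro _ ⟨z, hz, rfl⟩
        refine mem_center_iff.2 fun y => ?_
        obtain ⟨y, rfl⟩ := e.surjective y
        show e y * e z = e z * e y
        rw [← map_mul, ← map_mul, mem_center_iff.1 hz y]
      · haveI := hq.1
        rw [hk]
        refine le_trans (map_mono (le_top.trans_eq hq.1.commutator_eq_top.symm)) ?_
        rw [commutator_def, commutator_def, map_commutator]
        exact commutator_mono le_top le_top
    obtain ⟨π, hπ⟩ := (Cfsg.Agent.S2116.result 7 (Or.inr rfl)).2 T σ hσ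
    have h := card_dvd_of_surjective π hπ
    rw [hk, card_map_of_injective e.injective] at h
    simpa using h
  obtain ⟨k, hk⟩ := hodd
  have hle := Nat.le_of_dvd (by norm_num) h6
  rcases (show k = 0 ∨ k = 1 ∨ k = 2 by omega) with rfl | rfl | rfl
  · refine Or.inl ⟨MulEquiv.trans ?_ e7⟩
    exact (QuotientGroup.quotientBot (G := G)).symm.trans
      (QuotientGroup.quotientMulEquivOfEq (eq_bot_of_card_eq (center G) (by omega)).symm)
  · exact Or.inr ⟨hk, ⟨e7⟩⟩
  · rw [hk] at h6; norm_num at h6

/-- **Faithful case**, given that the Sylow subgroup of the central quotient is dihedral of order eight. -/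
theorem faithful_case (hq : Cfsg.IsQuasisimple G) (P : Sylow 2 G)
    (hW : (P : Subgroup G) ⊓ center G = ⊥)
    (e : ↥((P.mapSurjective (QuotientGroup.mk'_surjective (center G)) : Sylow 2 (G ⧸ center G)) :
      Subgroup (G ⧸ center G)) ≃* DihedralGroup 4) :
    Nat.card (P : Subgroup G) = 8 ∧
      (Nonempty (G ≃* alternatingGroup (Fin 7)) ∨
       (Nat.card (center G) = 3 ∧ Nonempty (G ⧸ center G ≃* alternatingGroup (Fin 7))) ∨
       ∃ (F : Type) (_ : Field F) (_ : Fintype F), Odd (Fintype.card F) ∧
        Nonempty (G ⧸ center G ≃* Matrix.ProjectiveSpecialLinearGroup (Fin 2) F)) := by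
  classical
  obtain ⟨hperf, hsimple⟩ := id hq
  haveI := hperf
  haveI := hsimple
  refine ⟨by rw [Nat.card_congr ((sylowQuotEquiv P hW).trans e).toEquiv, DihedralGroup.nat_card], ?_⟩
  have hodd : Odd (Nat.card (center G)) := by
    haveI : Fact (Nat.Prime 2) := ⟨Nat.prime_two⟩
    rw [← Nat.not_even_iff_odd, even_iff_two_dvd]
    intro h
    obtain ⟨z, hz⟩ := exists_prime_orderOf_dvd_card' 2 h
    have hz' : orderOf (z : G) = 2 := (orderOf_coe z).trans hz
    have hzp : IsPGroup 2 (zpowers (z : G)) := IsPGroup.of_card (n := 1) ((Nat.card_zpowers _).trans hz')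
    haveI : (zpowers (z : G)).Normal := ⟨fun w hw v => by
      rw [mem_center_iff.1 (zpowers_le.2 z.2 hw) v, mul_inv_cancel_right]; exact hw⟩
    have hsup := P.3 (P.2.to_sup_of_normal_right hzp) le_sup_left
    have hmem : (z : G) ∈ (P : Subgroup G) ⊓ center G :=
      mem_inf.2 ⟨hsup ▸ mem_sup_right (mem_zpowers _), z.2⟩
    rw [hW, mem_bot] at hmem
    rw [hmem, orderOf_one] at hz'
    exact absurd hz' (by norm_num)
  have hres := GW.gw_perfect (G ⧸ center G) (GW.dihTwo_of_sylow _ (by norm_num : 2 ≤ 4) e)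
  have hO : Cfsg.oddCore (G ⧸ center G) = ⊥ := by
    have hn : (Cfsg.pPrimeCore 2 (G ⧸ center G)).Normal := by
      rw [Coprime.pPrimeCore_eq_piCore Nat.prime_two]; infer_instance
    refine (IsSimpleGroup.eq_bot_or_eq_top_of_normal _ hn).resolve_right fun e' => ?_
    have hc := Coprime.pPrimeCore_coprime (p := 2) (G := G ⧸ center G) Nat.prime_two
    rw [e', card_top, ← card_mul_index ((P.mapSurjective (QuotientGroup.mk'_surjective (center G)) :
      Sylow 2 (G ⧸ center G)) : Subgroup (G ⧸ center G)), Nat.card_congr e.toEquiv, DihedralGroup.nat_card] at hc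
    exact absurd hc (by rw [mul_assoc]; simp)
  have hres' := GW.IsPSLTwoOrA7.congr
    ((QuotientGroup.quotientMulEquivOfEq hO).trans QuotientGroup.quotientBot).symm hres
  rcases hres' with ⟨F, i1, i2, ho, -, he⟩ | ⟨⟨e7⟩⟩
  · exact Or.inr (Or.inr ⟨F, i1, i2, ho, he⟩)
  · rcases alt_seven_cover hq hodd e7 with h | h
    · exact Or.inl h
    · exact Or.inr (Or.inl h)

end CfsgLib.QuasiFour
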