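import Mathlib.GroupTheory.PGroup
import Mathlib.GroupTheory.Index
import Mathlib.Data.Finite.Perm
import Mathlib.Tactic

/-!
# Indecomposable abelian two-groups under an odd group with a four-group quotient
-/

set_option autoImplicit false
set_option linter.unusedSectionVars false

namespace CfsgLib.QuasiFour

open Subgroup

variable {A : Type*} [CommGroup A] [Finite A]

/-- Invariance of a subgroup under a group of automorphisms. -/
def Inv (Γ : Subgroup (MulAut A)) (S : Subgroup A) : Prop :=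
  ∀ γ ∈ Γ, ∀ a ∈ S, γ a ∈ S

/-- No proper decomposition into invariant subgroups. -/
def Indec (Γ : Subgroup (MulAut A)) : Prop :=
  ∀ S T : Subgroup A, Inv Γ S → Inv Γ T → S ⊓ T = ⊥ → S ⊔ T = ⊤ → S = ⊥ ∨ T = ⊥

theorem Inv.iff {Γ : Subgroup (MulAut A)} {S : Subgroup A} (h : Inv Γ S) {γ : MulAut A} (hγ : γ ∈ Γ)
    {a : A} : γ a ∈ S ↔ a ∈ S := by
  refine ⟨fun ha => ?_, h γ hγ a⟩
  have := h γ⁻¹ (inv_mem hγ) _ ha
  rwa [MulAut.inv_apply_self] at this

/-- A normal odd subgroup either is trivial or has trivial fixed points. -/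
theorem fixed_trivial (hA : IsPGroup 2 A) {Γ K : Subgroup (MulAut A)} (hKΓ : K ≤ Γ)
    (hnorm : ∀ γ ∈ Γ, ∀ κ ∈ K, γ * κ * γ⁻¹ ∈ K) (hodd : Odd (Nat.card K)) (hind : Indec Γ) :
    K = ⊥ ∨ ((∀ a, (∀ κ ∈ K, κ a = a) → a = 1) ∧
      ∀ M : Subgroup A, (∀ κ ∈ K, ∀ a, κ a * a⁻¹ ∈ M) → M = ⊤) := by
  classical
  haveI := Fintype.ofFinite K
  obtain ⟨n, hn⟩ := hA.exists_card_eq
  have hcop : (Nat.card K).Coprime (Nat.card A) := by
    rw [hn]
    exact (Nat.coprime_two_right.2 hodd).pow_right n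
  obtain ⟨m, hm⟩ : ∃ m : ℕ, ∀ a : A, a ^ (Nat.card K * m) = a := by
    refine ⟨Nat.card K ^ ((Nat.card A).totient - 1), fun a => ?_⟩
    have h := Nat.ModEq.pow_totient hcop
    rw [← Nat.sub_add_cancel (Nat.totient_pos.2 (Nat.card_pos (α := A)) : 1 ≤ _), pow_succ'] at h
    rw [← pow_mod_natCard, h, pow_mod_natCard, pow_one]
  let E : A →* A :=
    { toFun := fun a => (∏ κ : K, (κ : MulAut A) a) ^ m
      map_one' := by simp
      map_mul' := fun a b => by simp [Finset.prod_mul_distrib, mul_pow] }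
  have hE : ∀ a, E a = (∏ κ : K, (κ : MulAut A) a) ^ m := fun a => rfl
  have hfix : ∀ κ ∈ K, ∀ a, κ (E a) = E a := by
    intro κ hκ a
    rw [hE, map_pow, map_prod]
    congr 1
    exact Fintype.prod_equiv (Equiv.mulLeft ⟨κ, hκ⟩) _ _ fun x => rfl
  have hid : ∀ a, (∀ κ ∈ K, κ a = a) → E a = a := by
    intro a ha
    rw [hE, Finset.prod_congr rfl (fun (κ : K) _ => ha κ κ.2), Finset.prod_const, Finset.card_univ,
      ← Nat.card_eq_fintype_card, ← pow_mul, hm]
  have hidem : ∀ a, E (E a) = E a := fun a => hid _ fun κ hκ => hfix κ hκ a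
  have hcomm : ∀ γ ∈ Γ, ∀ a, γ (E a) = E (γ a) := by
    intro γ hγ a
    rw [hE, hE, map_pow, map_prod]
    congr 1
    refine Fintype.prod_equiv
      { toFun := fun κ : K => ⟨γ * κ * γ⁻¹, hnorm γ hγ κ κ.2⟩
        invFun := fun κ : K => ⟨γ⁻¹ * κ * γ, by
          have := hnorm γ⁻¹ (inv_mem hγ) κ κ.2
          rwa [inv_inv] at this⟩
        left_inv := fun κ => Subtype.ext (by simp [mul_assoc])
        right_inv := fun κ => Subtype.ext (by simp [mul_assoc]) } _ _ fun κ => ?_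
    show γ ((κ : MulAut A) a) = (γ * κ * γ⁻¹) (γ a)
    simp [MulAut.mul_apply]
  rcases hind E.ker E.range
      (fun γ hγ a ha => MonoidHom.mem_ker.2 (by rw [← hcomm γ hγ, MonoidHom.mem_ker.1 ha, map_one]))
      (by rintro γ hγ _ ⟨a, rfl⟩; exact ⟨γ a, (hcomm γ hγ a).symm⟩)
      (by
        rw [eq_bot_iff]
        rintro _ ⟨hk, a, rfl⟩
        rw [mem_bot, ← hidem a]
        exact MonoidHom.mem_ker.1 hk)
      (by
        rw [eq_top_iff]
        intro a _
        rw [show a = a * (E a)⁻¹ * E a by group]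
        exact mul_mem_sup (MonoidHom.mem_ker.2 (by rw [map_mul, map_inv, hidem, mul_inv_cancel]))
          ⟨a, rfl⟩) with h | h
  · refine Or.inl ((eq_bot_iff_forall K).2 fun κ hκ => MulEquiv.ext fun a => ?_)
    have he : E a = a := by
      have h1 : a * (E a)⁻¹ ∈ E.ker :=
        MonoidHom.mem_ker.2 (by rw [map_mul, map_inv, hidem, mul_inv_cancel])
      rw [h, mem_bot, mul_inv_eq_one] at h1
      exact h1.symm
    rw [← he]
    exact hfix κ hκ a
  · have h1 : ∀ a, E a = 1 := fun a => mem_bot.1 (h ▸ ⟨a, rfl⟩)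
    refine Or.inr ⟨fun a ha => (hid a ha).symm.trans (h1 a), fun M hM => (eq_top_iff' M).2 fun a => ?_⟩
    rw [← inv_mem_iff, ← one_mul a⁻¹, ← h1 a]
    conv => arg 2; arg 2; rw [← hm a]
    rw [hE, pow_mul, ← inv_pow, ← mul_pow]
    refine pow_mem ?_ m
    rw [show a ^ Nat.card K = ∏ _κ : K, a by simp [Nat.card_eq_fintype_card], ← Finset.prod_inv_distrib,
      ← Finset.prod_mul_distrib]
    exact prod_mem fun κ _ => hM κ κ.2 a

/-- **Homocyclic of rank two**: exactly four solutions of `x² = 1`. -/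
theorem card_four_torsion (hA : IsPGroup 2 A) (Γ : Subgroup (MulAut A)) (hodd : Odd (Nat.card Γ))
    (hΓ : Γ ≠ ⊥) (hind : Indec Γ) (M : Subgroup A) (hMinv : Inv Γ M) (hM : M.index = 4)
    (hsq : ∀ a : A, a ^ 2 ∈ M) : Nat.card {a : A // a ^ 2 = 1} = 4 := by
  classical
  haveI := Fintype.ofFinite A
  -- the kernel of the action on the quotient
  let K : Subgroup (MulAut A) :=
    { carrier := {γ | γ ∈ Γ ∧ ∀ a, γ a * a⁻¹ ∈ M}
      one_mem' := ⟨one_mem _, fun a => by simp⟩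
      mul_mem' := fun {γ δ} h1 h2 => ⟨mul_mem h1.1 h2.1, fun a => by
        rw [MulAut.mul_apply, show γ (δ a) * a⁻¹ = (γ (δ a) * (δ a)⁻¹) * (δ a * a⁻¹) by group]
        exact mul_mem (h1.2 _) (h2.2 a)⟩
      inv_mem' := fun {γ} h => ⟨inv_mem h.1, fun a => by
        have h1 := inv_mem (h.2 (γ⁻¹ a))
        rwa [MulAut.apply_inv_self, mul_inv_rev, inv_inv] at h1⟩ }
  have hKnorm : ∀ γ ∈ Γ, ∀ κ ∈ K, γ * κ * γ⁻¹ ∈ K := fun γ hγ κ hκ =>
    ⟨mul_mem (mul_mem hγ hκ.1) (inv_mem hγ), fun a => by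
      have h1 := hMinv γ hγ _ (hκ.2 (γ⁻¹ a))
      rwa [map_mul, map_inv, MulAut.apply_inv_self] at h1⟩
  have hKodd : Odd (Nat.card K) := hodd.of_dvd_nat (card_dvd_of_le fun γ hγ => hγ.1)
  obtain ⟨a₀, ha₀⟩ : ∃ a, a ∉ M := by
    by_contra hne
    push_neg at hne
    rw [(eq_top_iff' M).2 hne, index_top] at hM
    omega
  have hK : K = ⊥ := by
    rcases fixed_trivial (K := K) hA (fun γ hγ => hγ.1) hKnorm hKodd hind with h | ⟨-, hmod⟩
    · exact h
    · exact absurd (hmod M (fun κ hκ => hκ.2)) fun e => ha₀ (e ▸ mem_top a₀)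
  -- no fixed points
  have hfix : ∀ a, (∀ γ ∈ Γ, γ a = a) → a = 1 := by
    rcases fixed_trivial hA le_rfl (fun γ hγ κ hκ => mul_mem (mul_mem hγ hκ) (inv_mem hγ)) hodd hind
      with h | ⟨h, -⟩
    · exact absurd h hΓ
    · exact h
  -- order three
  have h3 : Nat.card Γ = 3 := by
    let q : Γ → Equiv.Perm {c : A ⧸ M // c ≠ 1} := fun γ =>
      (QuotientGroup.congr M M (γ : MulAut A) (by
        ext b
        simp only [Subgroup.mem_map, MulEquiv.coe_toMonoidHom]
        refine ⟨?_, fun hb => ⟨(γ : MulAut A)⁻¹ b, hMinv _ (inv_mem γ.2) b hb, by simp⟩⟩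
        rintro ⟨c, hc, rfl⟩
        exact hMinv _ γ.2 c hc)).toEquiv.subtypeEquiv fun c =>
          (EmbeddingLike.map_ne_one_iff (f := QuotientGroup.congr M M (γ : MulAut A) _)).symm
    let f : Γ →* Equiv.Perm {c : A ⧸ M // c ≠ 1} :=
      { toFun := q
        map_one' := by
          ext ⟨c, hc⟩
          induction c using QuotientGroup.induction_on
          rfl
        map_mul' := fun γ δ => by
          ext ⟨c, hc⟩
          induction c using QuotientGroup.induction_on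
          rfl }
    have hf : Function.Injective f := by
      refine (injective_iff_map_eq_one f).2 fun γ hγ => Subtype.ext ?_
      rw [OneMemClass.coe_one, ← mem_bot, ← hK]
      refine ⟨γ.2, fun a => ?_⟩
      by_cases ha : a ∈ M
      · exact mul_mem (hMinv _ γ.2 a ha) (inv_mem ha)
      · have h1 := congrArg Subtype.val
          (Equiv.ext_iff.1 hγ ⟨(a : A ⧸ M), fun e => ha ((QuotientGroup.eq_one_iff a).1 e)⟩)
        exact QuotientGroup.eq_iff_div_mem.1 h1 |> fun h => by rwa [div_eq_mul_inv] at h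
    have hc := card_dvd_of_injective f hf
    have hset : Nat.card {c : A ⧸ M // c ≠ 1} = 3 := by
      have h1 := Nat.card_congr (Equiv.sumCompl (fun c : A ⧸ M => c = 1))
      rw [Nat.card_sum, ← index, hM, Nat.card_unique] at h1
      show Nat.card {c : A ⧸ M // ¬ c = 1} = 3
      omega
    rw [Nat.card_perm, hset, show (3 : ℕ).factorial = 6 from rfl] at hc
    have h1 : Nat.card Γ ≠ 1 := fun e => hΓ (eq_bot_of_card_eq Γ e)
    have := Nat.le_of_dvd (by norm_num) hc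
    obtain ⟨k, hk⟩ := hodd
    obtain ⟨l, hl⟩ := hc
    rcases (show k = 0 ∨ k = 1 ∨ k = 2 by omega) with rfl | rfl | rfl
    · exact absurd hk h1
    · exact hk
    · rw [hk] at hl; omega
  obtain ⟨⟨x, hx⟩, hx1⟩ := Subgroup.nontrivial_iff_exists_ne_one Γ |>.1 ((nontrivial_iff_ne_bot Γ).2 hΓ) |> fun ⟨x, hx, h⟩ => (⟨⟨x, hx⟩, h⟩ : ∃ x : Γ, (x : MulAut A) ≠ 1)
  have hgen : ∀ γ ∈ Γ, γ ∈ zpowers x := by
    haveI : Fact (Nat.Prime 3) := ⟨Nat.prime_three⟩
    intro γ hγ
    have h := mem_zpowers_of_prime_card h3 (g := (⟨x, hx⟩ : Γ)) (g' := ⟨γ, hγ⟩)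
      (fun e => hx1 (congrArg Subtype.val e))
    obtain ⟨i, hi⟩ := h
    exact ⟨i, congrArg Subtype.val hi⟩
  have hx3 : x ^ 3 = 1 := by
    have := pow_card_eq_one' (x := (⟨x, hx⟩ : Γ))
    rw [h3] at this
    exact congrArg Subtype.val this
  have hxfix : ∀ a, x a = a → a = 1 := fun a ha => hfix a fun γ hγ => by
    obtain ⟨i, rfl⟩ := hgen γ hγ
    exact (zpowers_le (H := MulAction.stabilizer (MulAut A) a)).2 ha ⟨i, rfl⟩
  have hxxx : ∀ a, x (x (x a)) = a := fun a => by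
    rw [← MulAut.mul_apply, ← MulAut.mul_apply, ← pow_three', hx3, MulAut.one_apply]
  have hxx : ∀ a, x (x a) = (a * x a)⁻¹ := fun a => by
    refine eq_inv_of_mul_eq_one_right (hxfix _ ?_)
    rw [map_mul, map_mul, hxxx, mul_comm]
    ac_rfl
  have inv_of : ∀ S : Subgroup A, (∀ a ∈ S, x a ∈ S) → Inv Γ S := by
    intro S hS γ hγ a ha
    obtain ⟨i, rfl⟩ := hgen γ hγ
    have : x ∈ ({ carrier := {γ | ∀ b, γ b ∈ S ↔ b ∈ S}
                  one_mem' := fun b => Iff.rfl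
                  mul_mem' := fun {γ δ} h1 h2 b => (h1 (δ b)).trans (h2 b)
                  inv_mem' := fun {γ} h b => by
                    rw [← h (γ⁻¹ b), MulAut.apply_inv_self] } : Subgroup (MulAut A)) := fun b =>
      ⟨fun hb => by rw [← hxxx b]; exact hS _ (hS _ hb), hS b⟩
    exact (zpow_mem this i a).2 ha
  -- an element of largest order
  obtain ⟨a, -, hmax⟩ := Finset.exists_max_image Finset.univ (fun a : A => orderOf a) ⟨1, Finset.mem_univ _⟩
  have hexp : ∀ b : A, b ^ orderOf a = 1 := fun b => by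
    obtain ⟨i, hi⟩ := (IsPGroup.iff_orderOf.1 hA) a
    obtain ⟨j, hj⟩ := (IsPGroup.iff_orderOf.1 hA) b
    have hle := hmax b (Finset.mem_univ _)
    rw [hi, hj, Nat.pow_le_pow_iff_right (by norm_num)] at hle
    exact orderOf_dvd_iff_pow_eq_one.1 (by rw [hi, hj]; exact pow_dvd_pow 2 hle)
  obtain ⟨n, hn⟩ : ∃ n, orderOf a = 2 ^ (n + 1) := by
    obtain ⟨i, hi⟩ := (IsPGroup.iff_orderOf.1 hA) a
    rcases i with _ | i
    · have := hexp a₀
      rw [hi, pow_zero, pow_one] at this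
      exact absurd (this ▸ one_mem M) ha₀
    · exact ⟨i, hi⟩
  rw [hn] at hexp
  set u := a ^ 2 ^ n with hu
  set v := x u with hv
  have hu1 : u ≠ 1 := fun e => by
    have := Nat.le_of_dvd (by positivity) (orderOf_dvd_of_pow_eq_one e)
    rw [hn, pow_succ] at this
    have := Nat.two_pow_pos n
    omega
  have hu2 : u * u = 1 := by rw [hu, ← pow_add, ← two_mul, ← pow_succ']; exact hexp a
  have hv1 : v ≠ 1 := fun e => hu1 (x.injective (e.trans (map_one x).symm))
  have huv : v ≠ u := fun e => hu1 (hxfix u e)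
  have hv2 : v * v = 1 := by rw [hv, ← map_mul, hu2, map_one]
  have huv1 : u * v ≠ 1 := fun e => huv ((eq_inv_of_mul_eq_one_right e).trans (eq_inv_of_mul_eq_one_right hu2).symm)
  have pw : ∀ (w : A) (i : ℕ), w * w = 1 → w ^ i = if Even i then 1 else w := by
    intro w i hw
    rcases Nat.even_or_odd' i with ⟨k, rfl | rfl⟩
    · rw [if_pos (even_two_mul k), pow_mul, pow_two, hw, one_pow]
    · rw [if_neg (by simp [Nat.even_add_one]), pow_succ, pow_mul, pow_two, hw, one_pow, one_mul]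
  have heven : ∀ i j : ℕ, u ^ i * v ^ j = 1 → Even i ∧ Even j := by
    intro i j h
    rw [pw u i hu2, pw v j hv2] at h
    split_ifs at h with h1 h2 h2
    · exact ⟨h1, h2⟩
    · exact absurd (by rwa [one_mul] at h) hv1
    · exact absurd (by rwa [mul_one] at h) hu1
    · exact absurd h huv1
  have hzero : ∀ i j : ℕ, a ^ i * x a ^ j = 1 → ∀ k ≤ n + 1, 2 ^ k ∣ i ∧ 2 ^ k ∣ j := by
    intro i j h k
    induction k with
    | zero => simp
    | succ k ih =>
      intro hk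
      obtain ⟨⟨i', rfl⟩, j', rfl⟩ := ih (by omega)
      obtain ⟨l, rfl⟩ : ∃ l, n = k + l := ⟨n - k, by omega⟩
      have h1 : u ^ i' * v ^ j' = 1 := by
        have := congrArg (fun w : A => w ^ 2 ^ l) h
        simp only [mul_pow, one_pow, ← pow_mul] at this
        rw [hv, hu, map_pow, ← pow_mul, ← pow_mul, show 2 ^ (k + l) * i' = 2 ^ k * i' * 2 ^ l by ring,
          show 2 ^ (k + l) * j' = 2 ^ k * j' * 2 ^ l by ring]
        exact this
      obtain ⟨hi, hj⟩ := heven i' j' h1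
      exact ⟨by rw [pow_succ]; exact mul_dvd_mul_left _ hi.two_dvd,
        by rw [pow_succ]; exact mul_dvd_mul_left _ hj.two_dvd⟩
  let gen2 : A → Subgroup A := fun b => zpowers b ⊔ zpowers (x b)
  have hgen2 : ∀ b, ∀ c ∈ gen2 b, x c ∈ gen2 b := by
    intro b
    refine fun c hc => ?_
    have h : gen2 b ≤ (gen2 b).comap x.toMonoidHom := sup_le
      (zpowers_le.2 (show x b ∈ gen2 b from mem_sup_right (mem_zpowers _)))
      (zpowers_le.2 (show x (x b) ∈ gen2 b by
        rw [hxx]; exact inv_mem (mul_mem_sup (mem_zpowers _) (mem_zpowers _))))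
    exact h hc
  have hform : ∀ b, ∀ c ∈ gen2 b, ∃ i j : ℕ, b ^ i * x b ^ j = c := by
    intro b c hc
    obtain ⟨p, hp, q, hq, rfl⟩ := mem_sup.1 hc
    obtain ⟨i, rfl⟩ := (isOfFinOrder_of_finite b).mem_zpowers_iff_mem_range_orderOf.1 hp |> Finset.mem_image.1 |> fun ⟨i, _, e⟩ => (⟨i, e⟩ : ∃ i : ℕ, b ^ i = p)
    obtain ⟨j, rfl⟩ := (isOfFinOrder_of_finite (x b)).mem_zpowers_iff_mem_range_orderOf.1 hq |> Finset.mem_image.1 |> fun ⟨i, _, e⟩ => (⟨i, e⟩ : ∃ i : ℕ, x b ^ i = q)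
    exact ⟨i, j, rfl⟩
  set B := gen2 a with hB
  have hBsq : ∀ b ∈ B, b ^ 2 ^ n = 1 → ∃ d ∈ B, d * d = b := by
    intro b hb h
    obtain ⟨i, j, rfl⟩ := hform a b hb
    have h1 : u ^ i * v ^ j = 1 := by
      rw [hv, hu, map_pow, ← pow_mul, ← pow_mul, mul_comm _ i, mul_comm _ j, pow_mul, pow_mul, ← mul_pow]
      exact h
    obtain ⟨⟨i', rfl⟩, j', rfl⟩ := heven i j h1
    exact ⟨a ^ i' * x a ^ j', mul_mem_sup (pow_mem (mem_zpowers a) _) (pow_mem (mem_zpowers _) _),
      by rw [pow_add, pow_add, mul_mul_mul_comm]⟩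
  -- a maximal invariant subgroup disjoint from B
  obtain ⟨C, ⟨hCi, hCd⟩, hCmax⟩ := Set.Finite.exists_maximal (s := {C : Subgroup A | Inv Γ C ∧ C ⊓ B = ⊥})
    (Set.toFinite _) ⟨⊥, fun γ _ b hb => by rw [mem_bot.1 hb, map_one]; exact one_mem _, bot_inf_eq _⟩
  have hBC : C ⊔ B = ⊤ := by
    by_contra hne
    obtain ⟨y, hy, hymin⟩ : ∃ y, y ∉ C ⊔ B ∧ ∀ z, orderOf z < orderOf y → z ∈ C ⊔ B := by
      obtain ⟨y₀, hy₀⟩ : ∃ y, y ∉ C ⊔ B := by
        by_contra h
        push_neg at h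
        exact hne ((eq_top_iff' _).2 h)
      obtain ⟨y, hy, hmin⟩ := Finset.exists_min_image (Finset.univ.filter fun y => y ∉ C ⊔ B)
        (fun y : A => orderOf y) ⟨y₀, by simp [hy₀]⟩
      simp only [Finset.mem_filter, Finset.mem_univ, true_and] at hy hmin
      exact ⟨y, hy, fun z hz => by_contra fun h => absurd (hmin z h) (by omega)⟩
    have hy2 : y ^ 2 ∈ C ⊔ B := by
      refine hymin _ ?_
      obtain ⟨i, hi⟩ := (IsPGroup.iff_orderOf.1 hA) y
      rcases i with _ | i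
      · exact absurd (by rw [orderOf_eq_one_iff.1 hi]; exact one_mem _) hy
      · rw [orderOf_pow' _ two_ne_zero, hi, Nat.gcd_eq_right (dvd_pow_self 2 (Nat.succ_ne_zero i))]
        exact Nat.div_lt_self (by positivity) (by norm_num)
    obtain ⟨c, hc, b, hb, hcb⟩ := mem_sup.1 hy2
    have hbn : b ^ 2 ^ n = 1 := by
      have h1 : b ^ 2 ^ n ∈ C ⊓ B := by
        refine mem_inf.2 ⟨?_, pow_mem hb _⟩
        have h2 : b ^ 2 ^ n = (c ^ 2 ^ n)⁻¹ := by
          refine eq_inv_of_mul_eq_one_right ?_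
          rw [← mul_pow, hcb, ← pow_mul, ← pow_succ']
          exact hexp y
        rw [h2]; exact inv_mem (pow_mem hc _)
      rwa [hCd, mem_bot] at h1
    obtain ⟨d, hd, rfl⟩ := hBsq b hb hbn
    set z := y * d⁻¹ with hz
    have hz2 : z * z ∈ C := by
      rw [hz, mul_mul_mul_comm, ← pow_two, ← hcb, ← mul_inv, mul_inv_cancel_right]; exact hc
    have hzBC : z ∉ C ⊔ B := fun h => hy (by
      rw [show y = z * d by rw [hz, inv_mul_cancel_right]]
      exact mul_mem h (mem_sup_right hd))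
    have hC' : Inv Γ (C ⊔ gen2 z) := inv_of _ fun w hw => by
      obtain ⟨p, hp, q, hq, rfl⟩ := mem_sup.1 hw
      rw [map_mul]
      exact mul_mem_sup (hCi x hx p hp) (hgen2 z q hq)
    have hne' : (C ⊔ gen2 z) ⊓ B ≠ ⊥ := fun h =>
      hzBC (mem_sup_left (hCmax (y := C ⊔ gen2 z) ⟨hC', h⟩ le_sup_left
        (mem_sup_right (mem_sup_left (mem_zpowers z)))))
    obtain ⟨w, hwI, hw1⟩ := (bot_or_exists_ne_one _).resolve_left hne'
    obtain ⟨hw, hwB⟩ := mem_inf.1 hwI
    obtain ⟨c', hc', q, hq, rfl⟩ := mem_sup.1 hw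
    obtain ⟨i, j, rfl⟩ := hform z q hq
    have hxz2 : x z * x z ∈ C := by rw [← map_mul]; exact hCi x hx _ hz2
    have red : ∀ (w : A) (i : ℕ), w * w ∈ C → ∃ c ∈ C, w ^ i = c * if Even i then 1 else w := by
      intro w i hw
      rcases Nat.even_or_odd' i with ⟨k, rfl | rfl⟩
      · exact ⟨_, pow_mem hw k, by rw [if_pos (even_two_mul k), mul_one, pow_mul, pow_two]⟩
      · exact ⟨_, pow_mem hw k, by rw [if_neg (by simp [Nat.even_add_one]), pow_succ, pow_mul, pow_two]⟩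
    obtain ⟨c₁, hc₁, e₁⟩ := red z i hz2
    obtain ⟨c₂, hc₂, e₂⟩ := red (x z) j hxz2
    rw [e₁, e₂] at hwB hw1
    have hinv : ∀ e : A, x e ∈ C ⊔ B → e ∈ C ⊔ B := by
      intro e he
      have h : Inv Γ (C ⊔ B) := inv_of _ fun w hw => by
        obtain ⟨p, hp, q, hq, rfl⟩ := mem_sup.1 hw
        rw [map_mul]
        exact mul_mem_sup (hCi x hx p hp) (hgen2 a q hq)
      exact (h.iff hx).1 he
    have key : ∀ e : A, c' * (c₁ * 1) * (c₂ * e) ∈ B → e ∈ C ⊔ B := by
      intro e he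
      rw [show e = (c' * c₁ * c₂)⁻¹ * (c' * (c₁ * 1) * (c₂ * e)) by
        rw [mul_one, eq_inv_mul_iff_mul_eq]; ac_rfl]
      exact mul_mem_sup (inv_mem (mul_mem (mul_mem hc' hc₁) hc₂)) he
    have hwB' : c' * (c₁ * 1) * (c₂ * ((if Even i then 1 else z) * (if Even j then 1 else x z))) ∈ B := by
      convert hwB using 1
      ac_rfl
    have hs := key _ hwB'
    split_ifs at hs hwB hw1 with h1 h2 h2
    · have h : c' * (c₁ * 1 * (c₂ * 1)) ∈ C ⊓ B :=
        ⟨mul_mem hc' (mul_mem (mul_mem hc₁ (one_mem _)) (mul_mem hc₂ (one_mem _))), hwB⟩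
      rw [hCd, mem_bot] at h
      exact hw1 h
    · rw [one_mul] at hs; exact hzBC (hinv z hs)
    · rw [mul_one] at hs; exact hzBC hs
    · refine hzBC (hinv z (hinv (x z) ?_))
      rw [hxx]; exact inv_mem hs
  rcases hind C B hCi (inv_of B (hgen2 a)) hCd hBC with hC | hB'
  swap
  · refine absurd ?_ hu1
    rw [← mem_bot, ← hB']
    exact pow_mem (mem_sup_left (mem_zpowers a)) _
  rw [hC, bot_sup_eq] at hBC
  have hset : ∀ w : A, w ^ 2 = 1 ↔ w ∈ ({1, u, v, u * v} : Finset A) := by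
    intro w
    simp only [Finset.mem_insert, Finset.mem_singleton]
    constructor
    · intro hw
      obtain ⟨i, j, rfl⟩ := hform a w (by show w ∈ B; rw [hBC]; exact mem_top w)
      rw [mul_pow, ← pow_mul, ← pow_mul] at hw
      obtain ⟨hi, hj⟩ := hzero _ _ hw (n + 1) le_rfl
      rw [pow_succ, Nat.mul_dvd_mul_iff_right two_pos] at hi hj
      obtain ⟨i', rfl⟩ := hi
      obtain ⟨j', rfl⟩ := hj
      rw [pow_mul, pow_mul, ← map_pow, ← hu, ← hv, pw u i' hu2, pw v j' hv2]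
      split_ifs <;> simp
    · rintro (rfl | h | h | h)
      · rw [one_pow]
      all_goals subst h
      all_goals rw [pow_two]
      · exact hu2
      · exact hv2
      · rw [mul_mul_mul_comm, hu2, hv2, one_mul]
  rw [Nat.card_congr (Equiv.subtypeEquivRight hset), Nat.card_eq_fintype_card, Fintype.card_coe]
  rw [Finset.card_insert_of_notMem, Finset.card_insert_of_notMem, Finset.card_pair]
  · exact fun e => hu1 (by simpa using e)
  · simp only [Finset.mem_insert, Finset.mem_singleton, not_or]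
    exact ⟨huv.symm, fun e => hv1 (by simpa using e)⟩
  · simp only [Finset.mem_insert, Finset.mem_singleton, not_or]
    exact ⟨hu1.symm, hv1.symm, huv1.symm⟩

end CfsgLib.QuasiFour
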