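import Cfsg.Agent.Lib.QuasiFour.Abelian
import Cfsg.Agent.Lib.Char.PslClassSizes.Split
import Cfsg.Agent.Lib.GW.Final

/-!
# Quasisimple groups: the centre meets the Sylow two-subgroup
-/

set_option autoImplicit false
set_option linter.unusedSectionVars false

namespace CfsgLib.QuasiFour

open Subgroup
open scoped commutatorElement

universe u

section Sylow

variable {P : Type u} [Group P]

/-- Squares are central when the centre has index four. -/
theorem sq_mem_center (hna : ¬ IsMulCommutative P) (hZ : (center P).index = 4) (a : P) :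
    a ^ 2 ∈ center P := by
  classical
  haveI : (center P).FiniteIndex := ⟨by rw [hZ]; norm_num⟩
  by_contra h
  have hd : orderOf (QuotientGroup.mk' (center P) a) = 2 ^ 2 := by
    haveI : Fact (Nat.Prime 2) := ⟨Nat.prime_two⟩
    refine orderOf_eq_prime_pow (p := 2) (n := 1) ?_ ?_
    · rw [pow_one, ← map_pow]
      exact fun e => h ((QuotientGroup.eq_one_iff _).1 e)
    · rw [show (2 : ℕ) ^ (1 + 1) = Nat.card (P ⧸ center P) by rw [← index, hZ]; norm_num, pow_card_eq_one']
  haveI : IsCyclic (P ⧸ center P) := isCyclic_of_orderOf_eq_card _ (by rw [hd, ← index, hZ]; norm_num)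
  exact hna ⟨⟨fun x y => commutative_of_cyclic_center_quotient (QuotientGroup.mk' (center P))
    (by rw [QuotientGroup.ker_mk']) x y⟩⟩

/-- The derived subgroup has order two. -/
theorem exists_commutator_gen (hna : ¬ IsMulCommutative P) (hZ : (center P).index = 4) :
    ∃ c : P, c ≠ 1 ∧ c * c = 1 ∧ c ∈ center P ∧ _root_.commutator P = zpowers c := by
  classical
  haveI : (center P).FiniteIndex := ⟨by rw [hZ]; norm_num⟩
  have hsq := sq_mem_center hna hZ
  have hqcomm : ∀ x y : P ⧸ center P, x * y = y * x := by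
    have h1 : ∀ x : P ⧸ center P, x * x = 1 := fun x => by
      induction x using QuotientGroup.induction_on with
      | H a =>
        rw [← QuotientGroup.mk_mul, QuotientGroup.eq_one_iff, ← pow_two]
        exact hsq a
    intro x y
    rw [← inv_eq_of_mul_eq_one_right (h1 x), ← inv_eq_of_mul_eq_one_right (h1 y), ← mul_inv_rev,
      inv_eq_of_mul_eq_one_right (h1 x), inv_eq_of_mul_eq_one_right (h1 y),
      inv_eq_of_mul_eq_one_right (h1 (y * x))]
  obtain ⟨a, b, hab⟩ : ∃ a b : P, a * b ≠ b * a := by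
    by_contra h
    push Not at h
    exact hna ⟨⟨h⟩⟩
  set c := ⁅a, b⁆ with hc
  have hcZ : c ∈ center P := by
    rw [← QuotientGroup.eq_one_iff, hc, commutatorElement_def]
    simp only [QuotientGroup.mk_mul, QuotientGroup.mk_inv]
    rw [hqcomm (a : P ⧸ center P) b]
    group
  have hc1 : c ≠ 1 := fun e => hab (commutatorElement_eq_one_iff_mul_comm.1 e)
  have hc2 : c * c = 1 := by
    have h1 : a * a * b = b * (a * a) := (mem_center_iff.1 (pow_two a ▸ hsq a) b).symm
    have e : a * b = c * (b * a) := by rw [hc, commutatorElement_def]; group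
    have h2 : a * a * b = c * c * (b * (a * a)) := by
      calc a * a * b = a * (c * (b * a)) := by rw [mul_assoc, e]
        _ = (a * c) * (b * a) := by group
        _ = (c * a) * (b * a) := by rw [mem_center_iff.1 hcZ a]
        _ = c * (a * b) * a := by group
        _ = c * (c * (b * a)) * a := by rw [e]
        _ = c * c * (b * (a * a)) := by group
    rw [← h1, eq_comm] at h2
    exact mul_eq_right.1 h2
  haveI : (zpowers c).Normal := ⟨fun z hz g => by
    rw [mem_center_iff.1 (zpowers_le.2 hcZ hz) g, mul_inv_cancel_right]; exact hz⟩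
  refine ⟨c, hc1, hc2, hcZ, le_antisymm ?_ (zpowers_le.2 (commutator_mem_commutator (mem_top a) (mem_top b)))⟩
  -- the centralisers modulo `c` are everything
  let q := QuotientGroup.mk' (zpowers c)
  have hclo : ∀ x : P, ∃ (i j : ℕ), ∃ z ∈ center P, x = a ^ i * b ^ j * z := by
    intro x
    have ha : a ∉ center P := fun h => hab (mem_center_iff.1 h b).symm
    have hb : b ∉ center P := fun h => hab (mem_center_iff.1 h a)
    have habZ : a * b⁻¹ ∉ center P := fun h => by
      have := mem_center_iff.1 h b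
      apply hab
      have e : a * b⁻¹ * b = a := inv_mul_cancel_right a b
      calc a * b = a * b⁻¹ * b * b := by rw [e]
        _ = b * (a * b⁻¹) * b := by rw [this]
        _ = b * a := by group
    haveI : Fintype (P ⧸ center P) := Fintype.ofFinite _
    haveI : IsKleinFour (P ⧸ center P) :=
      { card_four := by rw [← index, hZ]
        exponent_two := by
          haveI : Fact (Nat.Prime 2) := ⟨Nat.prime_two⟩
          haveI : Nontrivial (P ⧸ center P) := ⟨(a : P ⧸ center P), 1, fun e => ha ((QuotientGroup.eq_one_iff a).1 e)⟩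
          exact Monoid.exponent_eq_prime_iff (Fact.out) |>.2 fun g hg => by
            induction g using QuotientGroup.induction_on with
            | H y => exact orderOf_eq_prime (by rw [← QuotientGroup.mk_pow]; exact (QuotientGroup.eq_one_iff _).2 (hsq y)) hg }
    have h := IsKleinFour.eq_finset_univ (G := P ⧸ center P) (x := (a : P ⧸ center P)) (y := (b : P ⧸ center P))
      (fun e => ha ((QuotientGroup.eq_one_iff a).1 e)) (fun e => hb ((QuotientGroup.eq_one_iff b).1 e))
      (fun e => habZ ((QuotientGroup.eq_one_iff _).1 (by rw [QuotientGroup.mk_mul, QuotientGroup.mk_inv, e, mul_inv_cancel])))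
    have hx : (x : P ⧸ center P) ∈ ({(a : P ⧸ center P) * b, (a : P ⧸ center P), (b : P ⧸ center P), 1} : Finset _) := by
      rw [h]; exact Finset.mem_univ _
    simp only [Finset.mem_insert, Finset.mem_singleton] at hx
    obtain ⟨i, j, e⟩ : ∃ i j : ℕ, (x : P ⧸ center P) = ((a ^ i * b ^ j : P) : P ⧸ center P) := by
      rcases hx with e | e | e | e
      · exact ⟨1, 1, by simp [e]⟩
      · exact ⟨1, 0, by simp [e]⟩
      · exact ⟨0, 1, by simp [e]⟩
      · exact ⟨0, 0, by simp [e]⟩
    exact ⟨i, j, _, QuotientGroup.eq.1 e.symm, by group⟩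
  refine commutator_le.2 fun x _ y _ => ?_
  rw [← QuotientGroup.eq_one_iff (N := zpowers c)]
  show q ⁅x, y⁆ = 1
  rw [map_commutatorElement, commutatorElement_eq_one_iff_mul_comm]
  obtain ⟨i, j, z, hz, rfl⟩ := hclo x
  obtain ⟨i', j', z', hz', rfl⟩ := hclo y
  have hqab : Commute (q a) (q b) := by
    rw [← commutatorElement_eq_one_iff_commute, ← map_commutatorElement]
    exact (QuotientGroup.eq_one_iff _).2 (mem_zpowers c)
  have hzc : ∀ w ∈ center P, ∀ v : P, Commute (q w) (q v) := fun w hw v =>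
    (show Commute w v from (mem_center_iff.1 hw v).symm).map q
  simp only [map_mul, map_pow]
  refine Commute.eq ?_
  refine (Commute.mul_left (Commute.mul_left ?_ ?_) ?_)
  · refine (Commute.mul_right (Commute.mul_right ?_ ?_) ?_)
    · exact Commute.pow_pow_self _ _ _
    · exact hqab.pow_pow _ _
    · exact ((hzc z' hz' a).pow_right i).symm
  · refine (Commute.mul_right (Commute.mul_right ?_ ?_) ?_)
    · exact hqab.symm.pow_pow _ _
    · exact Commute.pow_pow_self _ _ _
    · exact ((hzc z' hz' b).pow_right j).symm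
  · refine (Commute.mul_right (Commute.mul_right ?_ ?_) ?_)
    · exact (hzc z hz a).pow_right i'
    · exact (hzc z hz b).pow_right j'
    · exact hzc z hz z'

end Sylow

variable {G : Type u} [Group G] [Finite G]

/-- **Central case**: `P` has order eight and the central quotient is `PSL(2, F)`, `|F|` odd. -/
theorem central_case (hq : Cfsg.IsQuasisimple G) (P : Sylow 2 G)
    (hna : ¬ IsMulCommutative (P : Subgroup G)) (hZ : (center (P : Subgroup G)).index = 4)
    (hW : (P : Subgroup G) ⊓ center G ≠ ⊥) :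
    Nat.card (P : Subgroup G) = 8 ∧
      ∃ (F : Type) (_ : Field F) (_ : Fintype F), Odd (Fintype.card F) ∧
        Nonempty (G ⧸ center G ≃* Matrix.ProjectiveSpecialLinearGroup (Fin 2) F) := by
  classical
  obtain ⟨hperf, hsimple⟩ := hq
  haveI := hperf
  haveI := hsimple
  haveI : Fact (Nat.Prime 2) := ⟨Nat.prime_two⟩
  have htop : _root_.commutator G = ⊤ := hperf.commutator_eq_top
  obtain ⟨c, hc1, hc2, hcZ, hcgen⟩ := exists_commutator_gen hna hZ
  have hz : ∀ (z : G) (hzP : z ∈ (P : Subgroup G)), z ∈ center G →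
      (⟨z, hzP⟩ : (P : Subgroup G)) = 1 ∨ (⟨z, hzP⟩ : (P : Subgroup G)) = c := by
    intro z hzP hzG
    have h := Char.PslSizes.central_mem_derived P hzG (htop ▸ mem_top z) hzP
    rw [hcgen] at h
    obtain ⟨k, hk⟩ := (isOfFinOrder_of_finite c).mem_zpowers_iff_mem_range_orderOf.1 h |> Finset.mem_image.1
      |> fun ⟨k, _, e⟩ => (⟨k, e⟩ : ∃ k : ℕ, c ^ k = _)
    rw [← hk]
    rcases Nat.even_or_odd' k with ⟨l, rfl | rfl⟩
    · exact Or.inl (by rw [pow_mul, pow_two, hc2, one_pow])
    · exact Or.inr (by rw [pow_succ, pow_mul, pow_two, hc2, one_pow, one_mul])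
  have hcG : (c : G) ∈ center G := by
    obtain ⟨z, hzI, hz1⟩ := (bot_or_exists_ne_one _).resolve_left hW
    obtain ⟨hzP, hzG⟩ := mem_inf.1 hzI
    rcases hz z hzP hzG with e | e
    · exact absurd (congrArg Subtype.val e) hz1
    · rw [← e]; exact hzG
  -- the quotient
  let π := QuotientGroup.mk' (center G)
  have hπ : Function.Surjective π := QuotientGroup.mk'_surjective _
  let Q : Sylow 2 (G ⧸ center G) := P.mapSurjective hπ
  have hQ : (Q : Subgroup (G ⧸ center G)) = (P : Subgroup G).map π := Sylow.coe_mapSurjective hπ P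
  have hna' : ¬ IsMulCommutative (G ⧸ center G) := fun h => hna ⟨⟨fun x y => by
    have hle : _root_.commutator G ≤ center G := commutator_le.2 fun a _ b _ => by
      rw [← QuotientGroup.eq_one_iff]
      show π ⁅a, b⁆ = 1
      rw [map_commutatorElement, commutatorElement_eq_one_iff_mul_comm]
      exact h.is_comm.comm _ _
    rw [htop] at hle
    exact Subtype.ext (mem_center_iff.1 (hle (mem_top (y : G))) x)⟩⟩
  let g : (P : Subgroup G) →* G ⧸ center G := π.comp (P : Subgroup G).subtype
  have hgr : g.range = (Q : Subgroup (G ⧸ center G)) := by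
    rw [hQ, MonoidHom.range_comp, range_subtype]
  have hgk : g.ker = zpowers c := by
    refine le_antisymm (fun z hzk => ?_) (zpowers_le.2 ((QuotientGroup.eq_one_iff _).2 hcG))
    rcases hz z z.2 ((QuotientGroup.eq_one_iff _).1 hzk) with e | e
    · rw [show z = 1 from e]; exact one_mem _
    · rw [show z = c from e]; exact mem_zpowers c
  have hab : ∀ a ∈ (Q : Subgroup (G ⧸ center G)), ∀ b ∈ (Q : Subgroup (G ⧸ center G)), a * b = b * a := by
    rw [← hgr]
    rintro _ ⟨a, rfl⟩ _ ⟨b, rfl⟩
    rw [← commutatorElement_eq_one_iff_mul_comm, ← map_commutatorElement, ← MonoidHom.mem_ker, hgk, ← hcgen]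
    exact commutator_mem_commutator (mem_top a) (mem_top b)
  let M : Subgroup (G ⧸ center G) := (center (P : Subgroup G)).map g
  have hMQ : M ≤ (Q : Subgroup (G ⧸ center G)) := hgr ▸ map_le_range g _
  have hM : M.relIndex (Q : Subgroup (G ⧸ center G)) = 4 := by
    rw [← hgr, MonoidHom.range_eq_map, relIndex_map_map, hgk, sup_eq_left.2 (zpowers_le.2 hcZ),
      top_sup_eq, relIndex_top_right, hZ]
  have hsq : ∀ a ∈ (Q : Subgroup (G ⧸ center G)), a ^ 2 ∈ M := by
    rw [← hgr]
    rintro _ ⟨a, rfl⟩
    rw [← map_pow]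
    exact mem_map_of_mem g (sq_mem_center hna hZ a)
  have hMinv : ∀ n ∈ normalizer ((Q : Subgroup (G ⧸ center G)) : Set (G ⧸ center G)), ∀ m ∈ M,
      n * m * n⁻¹ ∈ M := by
    intro n hn
    obtain ⟨n, rfl⟩ := hπ n
    have hconj : ∀ x ∈ (P : Subgroup G), n * x * n⁻¹ ∈ (P : Subgroup G) := by
      intro x hx
      have h1 : π (n * x * n⁻¹) ∈ (P : Subgroup G).map π := by
        rw [map_mul, map_mul, map_inv, ← hQ]
        exact (mem_normalizer_iff.1 hn _).1 (hQ ▸ mem_map_of_mem π hx)
      obtain ⟨p, hp, e⟩ := h1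
      have hzc : p⁻¹ * (n * x * n⁻¹) ∈ center G := QuotientGroup.eq.1 e
      set z := p⁻¹ * (n * x * n⁻¹) with hzdef
      have he : n * x * n⁻¹ = p * z := by rw [hzdef, mul_inv_cancel_left]
      obtain ⟨i, hi⟩ := P.2 ⟨x, hx⟩
      obtain ⟨j, hj⟩ := P.2 ⟨p, hp⟩
      have hxi : x ^ 2 ^ (i + j) = 1 := by
        rw [pow_add, pow_mul, show x ^ 2 ^ i = 1 from congrArg Subtype.val hi, one_pow]
      have hpj : p ^ 2 ^ (i + j) = 1 := by
        rw [pow_add, mul_comm, pow_mul, show p ^ 2 ^ j = 1 from congrArg Subtype.val hj, one_pow]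
      have hz2 : z ^ 2 ^ (i + j) = 1 := by
        have h2 : (p * z) ^ 2 ^ (i + j) = 1 := by
          rw [← he, conj_pow, hxi, mul_one, mul_inv_cancel]
        rwa [(show Commute p z from mem_center_iff.1 hzc p).mul_pow, hpj, one_mul] at h2
      have hzp : IsPGroup 2 (zpowers z) := by
        obtain ⟨k, -, hk⟩ := (Nat.dvd_prime_pow Nat.prime_two).1 (orderOf_dvd_of_pow_eq_one hz2)
        exact IsPGroup.of_card ((Nat.card_zpowers z).trans hk)
      haveI : (zpowers z).Normal := ⟨fun w hw v => by
        rw [mem_center_iff.1 (zpowers_le.2 hzc hw) v, mul_inv_cancel_right]; exact hw⟩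
      have hsup := P.3 (P.2.to_sup_of_normal_right hzp) le_sup_left
      rw [he]
      exact mul_mem hp (hsup ▸ mem_sup_right (mem_zpowers z))
    have hbij : ∀ y ∈ (P : Subgroup G), ∃ x ∈ (P : Subgroup G), n * x * n⁻¹ = y := by
      have hinj : Function.Injective (fun x : (P : Subgroup G) => (⟨_, hconj x x.2⟩ : (P : Subgroup G))) :=
        fun x y e => Subtype.ext (mul_left_cancel (mul_right_cancel (congrArg Subtype.val e)))
      intro y hy
      obtain ⟨x, hx⟩ := Finite.injective_iff_surjective.1 hinj ⟨y, hy⟩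
      exact ⟨x, x.2, congrArg Subtype.val hx⟩
    rintro _ ⟨m, hm, rfl⟩
    refine ⟨⟨n * m * n⁻¹, hconj m m.2⟩, mem_center_iff.2 fun y => ?_, rfl⟩
    obtain ⟨x, hx, e⟩ := hbij y y.2
    refine Subtype.ext ?_
    show (y : G) * (n * m * n⁻¹) = n * m * n⁻¹ * y
    rw [← e, show n * x * n⁻¹ * (n * m * n⁻¹) = n * (x * m) * n⁻¹ by group,
      show n * m * n⁻¹ * (n * x * n⁻¹) = n * (m * x) * n⁻¹ by group,
      show x * (m : G) = m * x from congrArg Subtype.val (mem_center_iff.1 hm ⟨x, hx⟩)]
  have h4 := card_eq_four_of_abelian hna' Q hab M hMQ hM hsq hMinv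
  have hM1 : M = ⊥ := by
    have h := card_mul_index (M.subgroupOf (Q : Subgroup (G ⧸ center G)))
    rw [show (M.subgroupOf (Q : Subgroup (G ⧸ center G))).index = 4 from hM, h4,
      Nat.card_congr (subgroupOfEquivOfLe hMQ).toEquiv] at h
    exact eq_bot_of_card_eq M (by omega)
  have h8 : Nat.card (P : Subgroup G) = 8 := by
    rw [← g.ker.card_mul_index, index_ker, hgr, h4, hgk, Nat.card_zpowers,
      orderOf_eq_prime (by rw [pow_two, hc2]) hc1]
  refine ⟨h8, ?_⟩
  haveI : IsKleinFour (Q : Subgroup (G ⧸ center G)) :=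
    { card_four := h4
      exponent_two := by
        haveI : Nontrivial (Q : Subgroup (G ⧸ center G)) := Finite.one_lt_card_iff_nontrivial.1 (by omega)
        exact (Monoid.exponent_eq_prime_iff Nat.prime_two).2 fun a ha => orderOf_eq_prime
          (Subtype.ext (mem_bot.1 (hM1 ▸ hsq a a.2))) ha }
  obtain ⟨e⟩ : Nonempty ((Q : Subgroup (G ⧸ center G)) ≃* DihedralGroup 2) := IsKleinFour.nonempty_mulEquiv
  have hres := GW.gw_perfect (G ⧸ center G) (GW.dihTwo_of_sylow Q le_rfl e)
  have hO : Cfsg.oddCore (G ⧸ center G) = ⊥ := by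
    have hn : (Cfsg.pPrimeCore 2 (G ⧸ center G)).Normal := by
      rw [Coprime.pPrimeCore_eq_piCore Nat.prime_two]; infer_instance
    refine (IsSimpleGroup.eq_bot_or_eq_top_of_normal _ hn).resolve_right fun e => ?_
    have hc := Coprime.pPrimeCore_coprime (p := 2) (G := G ⧸ center G) Nat.prime_two
    rw [e, card_top, ← card_mul_index (Q : Subgroup (G ⧸ center G)), h4] at hc
    exact absurd hc (by rw [show (4 : ℕ) = 2 * 2 by rfl, mul_assoc]; simp)
  have hres' := GW.IsPSLTwoOrA7.congr
    ((QuotientGroup.quotientMulEquivOfEq hO).trans QuotientGroup.quotientBot).symm hres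
  rcases hres' with ⟨F, i1, i2, ho, -, he⟩ | ⟨⟨e7⟩⟩
  · exact ⟨F, i1, i2, ho, he⟩
  · exfalso
    have hc : Nat.card (G ⧸ center G) = 2520 := by
      rw [Nat.card_congr e7.toEquiv]
      have h2 : 2 * Nat.card (alternatingGroup (Fin 7)) = Nat.factorial 7 := by
        rw [two_mul_nat_card_alternatingGroup, Nat.card_perm, Nat.card_fin]
      rw [show Nat.factorial 7 = 2 * 2520 from rfl] at h2
      exact Nat.eq_of_mul_eq_mul_left two_pos h2
    rw [← card_mul_index (Q : Subgroup (G ⧸ center G)), h4] at hc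
    exact Q.not_dvd_index ⟨315, by omega⟩

end CfsgLib.QuasiFour
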