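import Cfsg.Agent.Lib.QuasiFour.SimpleActive
import Cfsg.Agent.Lib.DDProd.Odd
import Cfsg.Agent.Lib.ProdFusion.Main
import Cfsg.Agent.Lib.Invol.ZStar
import Mathlib.GroupTheory.SpecificGroups.Dihedral

/-!
# Simple groups with a nonabelian Sylow 2-subgroup whose centre has index four

Such a Sylow 2-subgroup is dihedral of order eight.
-/

set_option autoImplicit false
set_option linter.unusedSectionVars false
set_option linter.style.haveILetI false

open Subgroup
open scoped Pointwise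

namespace CfsgLib.QuasiFour.Simple

open CfsgLib.Fusion CfsgLib.Fusion.Goldschmidt

universe u

variable {G : Type u} [Group G] [Finite G] {P : Sylow 2 G} {Z : Subgroup G} {c : G}

/-- The conjugation family consists of `P` and the abelian maximal subgroups. -/
theorem Frame.good_cases (h : Frame P Z c) {E : Subgroup G} (hE : Good P E) :
    E = (P : Subgroup G) ∨ ∃ u ∈ (P : Subgroup G), u ∉ Z ∧ E = cP P u := by
  haveI : Fact (Nat.Prime 2) := ⟨Nat.prime_two⟩
  have hEP := hE.1
  have hself : ∀ x ∈ (P : Subgroup G), (∀ e ∈ E, x * e = e * x) → x ∈ E := by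
    intro x hx hc
    obtain ⟨h1, h2, hcomm, hd, hsup⟩ := hE.2.2.1
    have hxc : x ∈ corePP 2 E := hE.2.1 (mem_centralizer_iff.2 fun e he => (hc e he).symm)
    rw [← hsup] at hxc
    have hle : E ≤ normalizer (core' 2 E : Set G) := fun e he =>
      centralizer_le_normalizer _ (mem_centralizer_iff.2 fun a ha => hcomm a ha e he)
    have hx' : x ∈ ((core' 2 E : Subgroup G) : Set G) * (E : Set G) := by
      rw [← coe_mul_of_right_le_normalizer_left _ _ hle]; exact hxc
    obtain ⟨a, ha, e, he, rfl⟩ := hx'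
    have haP : a ∈ (P : Subgroup G) := by
      simpa using mul_mem hx (inv_mem (hEP he))
    have hbot : (P : Subgroup G) ⊓ core' 2 E = ⊥ := inf_eq_bot_of_coprime (by
      obtain ⟨k, hk⟩ := IsPGroup.iff_card.1 P.2
      rw [hk, Subgroup.card_map_of_injective (subtype_injective _)]
      exact ((CfsgLib.Coprime.pPrimeCore_coprime Nat.prime_two).symm).pow_left k)
    have h1' : a ∈ (P : Subgroup G) ⊓ core' 2 E := ⟨haP, ha⟩
    rw [hbot, mem_bot] at h1'
    simp only [h1', one_mul]
    exact he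
  have hZE : Z ≤ E := fun z hz => hself z (h.le hz) fun e he => (h.central z hz e (hEP he)).symm
  by_cases hEZ : E ≤ Z
  · refine Or.inl (le_antisymm hEP fun x hx => hself x hx fun e he => h.central e (hEZ he) x hx)
  obtain ⟨u, huE, hu'⟩ := SetLike.not_le_iff_exists.1 hEZ
  have hu := hEP huE
  by_cases hle : E ≤ cP P u
  · refine Or.inr ⟨u, hu, hu', le_antisymm hle fun x hx => ?_⟩
    rcases ((h.cP_iff hu hu').1 hx).2 with k | k
    · exact hZE k
    · simpa using mul_mem (hZE k) (inv_mem huE)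
  obtain ⟨v, hvE, hv⟩ := SetLike.not_le_iff_exists.1 hle
  refine Or.inl (le_antisymm hEP fun x hx => ?_)
  have hv' : v ∉ Z := fun k => hv (h.Z_le_cP hu k)
  have huv : u * v ∉ Z := fun k => hv ((h.cP_iff hu hu').2 ⟨hEP hvE, Or.inr (h.mul_mem_Z_comm hu k)⟩)
  have key : ∀ w ∈ E, x * w ∈ Z → x ∈ E := fun w hw k => by
    simpa using mul_mem (hZE k) (inv_mem hw)
  rcases h.cos u hu v (hEP hvE) hu' hv' huv x hx with k | k | k | k
  · exact hZE k
  · exact key u huE k
  · exact key v hvE k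
  · exact key _ (mul_mem huE hvE) k

/-- Either `c` is fixed by `N(C_P(u))`, or the subgroup is active. -/
theorem Frame.active_or (h : Frame P Z c) {u : G} (hu : u ∈ (P : Subgroup G)) (hu' : u ∉ Z) :
    (∀ n ∈ normalizer (cP P u : Set G), n * c * n⁻¹ = c) ∨
      ∃ a n₀ : G, Active P Z c a n₀ ∧ cP P a = cP P u := by
  by_cases hf : ∀ n ∈ normalizer (cP P u : Set G), n * c * n⁻¹ = c
  · exact Or.inl hf
  push Not at hf
  obtain ⟨n, hn, hne⟩ := hf
  obtain ⟨v, hv, hv'⟩ := h.exists_notMem hu hu'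
  obtain ⟨-, haZ, -⟩ := (h.conj_c hu hu' hv hv' hn).resolve_left fun k => hne k.1
  have haA : n * c * n⁻¹ ∈ cP P u := Frame.conj_mem hn (h.c_mem_cP hu hu')
  have hAe := h.cP_eq hu hu' haA haZ
  exact Or.inr ⟨n * c * n⁻¹, n, ⟨cP_le haA, haZ, by rw [hAe]; exact hn, rfl⟩, hAe⟩

/-- A step of the conjugation family is either realised in `N(P)` or lies in an active subgroup. -/
theorem Frame.step_cases (h : Frame P Z c) {E : Subgroup G} (hE : Good P E) {n : G}
    (hn : n ∈ normalizer (E : Set G)) :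
    (∃ k ∈ normalizer ((P : Subgroup G) : Set G), ∀ x ∈ E, n * x * n⁻¹ = k * x * k⁻¹) ∨
      ∃ a n₀ : G, Active P Z c a n₀ ∧ E = cP P a := by
  rcases h.good_cases hE with rfl | ⟨u, hu, hu', rfl⟩
  · exact Or.inl ⟨n, hn, fun x _ => rfl⟩
  rcases h.active_or hu hu' with hf | ⟨a, n₀, ha, e⟩
  · obtain ⟨v, hv, hv'⟩ := h.exists_notMem hu hu'
    obtain ⟨k, hk, hka⟩ := h.exists_normalizer_P hu hu' hv hv' hn (hf n hn)
    exact Or.inl ⟨k, hk, fun x hx => (hka x hx).symm⟩
  · exact Or.inr ⟨a, n₀, ha, e.symm⟩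

theorem pPrimeCore_two_eq_bot [IsSimpleGroup G] (P : Sylow 2 G) (hP : (P : Subgroup G) ≠ ⊥) :
    Cfsg.pPrimeCore 2 G = ⊥ := by
  haveI : Fact (Nat.Prime 2) := ⟨Nat.prime_two⟩
  haveI := CfsgLib.Coprime.pPrimeCore_characteristic (G := G) 2
  rcases (inferInstance : (Cfsg.pPrimeCore 2 G).Normal).eq_bot_or_eq_top with e | e
  · exact e
  exfalso
  have hco := CfsgLib.Coprime.pPrimeCore_coprime (G := G) Nat.prime_two
  rw [e, Subgroup.card_top] at hco
  refine hP ?_
  obtain ⟨k, hk⟩ := IsPGroup.iff_card.1 P.2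
  refine Subgroup.eq_bot_of_card_eq _ ?_
  exact Nat.eq_one_of_dvd_coprimes (hco.pow_right k)
    (Subgroup.card_subgroup_dvd_card _) hk.dvd

theorem Frame.exists_active [IsSimpleGroup G] (h : Frame P Z c) : ∃ a n₀ : G, Active P Z c a n₀ := by
  haveI : Fact (Nat.Prime 2) := ⟨Nat.prime_two⟩
  by_contra hno
  push Not at hno
  have hco : orderOf c = 2 := CfsgLib.Invol.invol_iff.2 ⟨h.c_sq, h.c_ne⟩
  have hwc : ∀ g : G, g * c * g⁻¹ ∈ P → g * c * g⁻¹ = c := by
    intro g hg
    have hR := CfsgLib.DDProd.rel_of_good P (fun a b => a = c → b = c) (fun a _ => id)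
      (fun a b d h1 h2 => h2 ∘ h1) (fun E hE x hx e he hec => by
        rcases h.step_cases hE (inv_mem hx) with ⟨k, hk, hka⟩ | ⟨a, n₀, hA, -⟩
        · have := hka e he
          rw [inv_inv, hec, h.conj_c_eq hk] at this
          rw [hec]
          exact this
        · exact absurd hA (hno a n₀))
      (a := c) (g := g⁻¹) h.c_memP (by rwa [inv_inv]) rfl
    rwa [inv_inv] at hR
  have hz := CfsgLib.Invol.zstar_of_weakly_closed P hco hwc
  have hO := pPrimeCore_two_eq_bot P fun e => h.c_ne (mem_bot.1 (e ▸ h.c_memP))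
  obtain ⟨u, hu, v, hv, hu', hv', huv⟩ := h.pair
  have hcen : c ∈ Subgroup.center G := Subgroup.mem_center_iff.2 fun g => by
    have := hz g
    rw [hO, mem_bot, mul_inv_eq_one, mul_inv_eq_iff_eq_mul] at this
    exact this.symm
  rcases (inferInstance : (Subgroup.center G).Normal).eq_bot_or_eq_top with e | e
  · rw [e, mem_bot] at hcen; exact h.c_ne hcen
  · exact hu' (h.mem_Z u hu fun y _ => (Subgroup.mem_center_iff.1 (e ▸ mem_top y :
      y ∈ Subgroup.center G) u).symm)

theorem Active.third_coset {a n₀ b m₀ : G} (h : Frame P Z c) (hA : Active P Z c a n₀)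
    (hB : Active P Z c b m₀) (hab : b ∉ cP P a) {d k₀ : G} (hC : Active P Z c d k₀) :
    cP P d = cP P a ∨ cP P d = cP P b := by
  have hba : b * a ∉ Z := fun k => hab ((h.cP_iff hA.mem hA.notMem).2 ⟨hB.mem, Or.inr k⟩)
  rcases h.cos a hA.mem b hB.mem hA.notMem hB.notMem
    (fun k => hba (h.mul_mem_Z_comm hA.mem k)) d hC.mem with k | k | k | k
  · exact absurd k hC.notMem
  · exact Or.inl (h.cP_eq hA.mem hA.notMem
      ((h.cP_iff hA.mem hA.notMem).2 ⟨hC.mem, Or.inr k⟩) hC.notMem)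
  · exact Or.inr (h.cP_eq hB.mem hB.notMem
      ((h.cP_iff hB.mem hB.notMem).2 ⟨hC.mem, Or.inr k⟩) hC.notMem)
  · exact (h.no_triple (hA.sq_ne h) hA.mem hB.mem hC.mem hA.notMem hB.notMem hba (hA.self_mul h)
      (hB.self_mul h) (hC.self_mul h) k).elim

theorem commutator_eq_top [IsSimpleGroup G] (h : Frame P Z c) : _root_.commutator G = ⊤ := by
  rcases (inferInstance : (_root_.commutator G).Normal).eq_bot_or_eq_top with e | e
  · exfalso
    obtain ⟨u, hu, v, hv, hu', hv', huv⟩ := h.pair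
    refine hu' (h.mem_Z u hu fun y _ => ?_)
    have := commutator_mem_commutator (Subgroup.mem_top y) (Subgroup.mem_top u)
    rw [← _root_.commutator_def, e, mem_bot] at this
    exact commutatorElement_eq_one_iff_mul_comm.1 this
  · exact e

/-- The elements `1, c, a, ca`. -/
def inFour (c a x : G) : Prop := x = 1 ∨ x = c ∨ x = a ∨ x = c * a

theorem inFour_mem {S : Subgroup G} {a x : G} (hc : c ∈ S) (ha : a ∈ S) (hx : inFour c a x) :
    x ∈ S := by
  rcases hx with rfl | rfl | rfl | rfl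
  exacts [one_mem _, hc, ha, mul_mem hc ha]

theorem Active.second [IsSimpleGroup G] {a n₀ : G} (h : Frame P Z c) (hA : Active P Z c a n₀) :
    ∃ b m₀ : G, Active P Z c b m₀ ∧ b ∉ cP P a := by
  by_contra hno
  push Not at hno
  haveI : Fact (Nat.Prime 2) := ⟨Nat.prime_two⟩
  have hX := CfsgLib.DDProd.commutator_inf_le P (cP P a) (fun E hE x hx e he => by
    rcases h.step_cases hE (inv_mem hx) with ⟨k, hk, hka⟩ | ⟨d, k₀, hC, rfl⟩
    · have h1 := hka e he
      rw [inv_inv] at h1
      rw [h1]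
      have h2 := h.normalizer_trivial (hA.sq_ne h) hA.mem hA.notMem (hA.self_mul h) hk (hE.1 he)
      refine h.Z_le_cP hA.mem ?_
      rw [show e⁻¹ * (k * e * k⁻¹) = e⁻¹ * (k * e * k⁻¹ * e⁻¹) * e by group,
        h.central _ h2 _ (inv_mem (hE.1 he)), inv_mul_cancel_right]
      exact h2
    · have hd := hno d k₀ hC
      rw [h.cP_eq hA.mem hA.notMem hd hC.notMem] at he hx
      have := Frame.conj_mem (inv_mem hx) he
      rw [inv_inv] at this
      exact mul_mem (inv_mem he) this)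
  rw [commutator_eq_top h, top_inf_eq] at hX
  obtain ⟨v, hv, hv'⟩ := h.exists_notMem hA.mem hA.notMem
  exact hv' (hX hv)

theorem main [IsSimpleGroup G] (h : Frame P Z c) :
    Nonempty ((P : Subgroup G) ≃* DihedralGroup 4) := by
  haveI : Fact (Nat.Prime 2) := ⟨Nat.prime_two⟩
  obtain ⟨a, n₀, hA⟩ := h.exists_active
  obtain ⟨b, m₀, hB, hab⟩ := hA.second h
  have hba : b * a ∉ Z := fun k => hab ((h.cP_iff hA.mem hA.notMem).2 ⟨hB.mem, Or.inr k⟩)
  have haB : a ∉ cP P b := fun k => hab (mem_cP.2 ⟨hB.mem, (mem_cP.1 k).2.symm⟩)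
  have ha2 := hA.self_mul h
  have hb2 := hB.self_mul h
  have hbab : b * a * b⁻¹ = c * a :=
    ((h.act_v hA.mem hA.notMem hB.mem hab (h.self_mem_cP hA.mem)).resolve_left
      fun k => hA.notMem k.1).2
  have haba : a * b * a⁻¹ = c * b :=
    ((h.act_v hB.mem hB.notMem hA.mem haB (h.self_mem_cP hB.mem)).resolve_left
      fun k => hB.notMem k.1).2
  have hnsq := hA.sq_ne h
  set D : Subgroup G := Subgroup.closure {a, b} with hD
  have haD : a ∈ D := subset_closure (by simp)
  have hbD : b ∈ D := subset_closure (by simp)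
  have hcD : c ∈ D := by
    have e : c = b * a * b⁻¹ * a⁻¹ := by rw [hbab, mul_inv_cancel_right]
    rw [e]; exact mul_mem (mul_mem (mul_mem hbD haD) (inv_mem hbD)) (inv_mem haD)
  have hDP : D ≤ (P : Subgroup G) := (closure_le _).2 (by
    rintro x (rfl | rfl)
    exacts [hA.mem, hB.mem])
  -- the elements of `D`
  have hDmem : ∀ x ∈ D, inFour c a x ∨ inFour c a (x * b) := by
    have hca : a * c = c * a := h.cz hA.mem
    have hcb : b * c = c * b := h.cz hB.mem
    have hba' : b * a = c * (a * b) := by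
      rw [← mul_assoc, ← hbab, inv_mul_cancel_right]
    have hRa : ∀ x, inFour c a x → inFour c a (x * a) := by
      rintro x (rfl | rfl | rfl | rfl)
      · exact Or.inr (Or.inr (Or.inl (one_mul a)))
      · exact Or.inr (Or.inr (Or.inr rfl))
      · exact Or.inl ha2
      · exact Or.inr (Or.inl (by rw [mul_assoc, ha2, mul_one]))
    have hRc : ∀ x, inFour c a x → inFour c a (x * c) := by
      rintro x (rfl | rfl | rfl | rfl)
      · exact Or.inr (Or.inl (one_mul c))
      · exact Or.inl h.c_sq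
      · exact Or.inr (Or.inr (Or.inr hca))
      · exact Or.inr (Or.inr (Or.inl (by rw [mul_assoc, hca, ← mul_assoc, h.c_sq, one_mul])))
    have hswap : ∀ x, x * b * a * c = x * a * b := by
      intro x
      have e : b * a * c = a * b := by
        rw [hba', ← h.cz (mul_mem hA.mem hB.mem), mul_assoc, h.c_sq, mul_one]
      rw [mul_assoc x b a, mul_assoc x, e, ← mul_assoc]
    intro x hx
    have hinv : a⁻¹ = a ∧ b⁻¹ = b := ⟨inv_eq_of_mul_eq_one_right ha2, inv_eq_of_mul_eq_one_right hb2⟩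
    induction hx using closure_induction_right with
    | one => exact Or.inl (Or.inl rfl)
    | mul_right x hx y hy ih =>
      rcases hy with rfl | rfl
      · rcases ih with k | k
        · exact Or.inl (hRa x k)
        · refine Or.inr ?_
          have := hRc _ (hRa _ k)
          rwa [hswap] at this
      · rcases ih with k | k
        · exact Or.inr (by rwa [mul_assoc, hb2, mul_one])
        · exact Or.inl k
    | mul_inv_cancel x hx y hy ih =>
      rcases hy with rfl | rfl
      · rw [hinv.1]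
        rcases ih with k | k
        · exact Or.inl (hRa x k)
        · refine Or.inr ?_
          have := hRc _ (hRa _ k)
          rwa [hswap] at this
      · rw [hinv.2]
        rcases ih with k | k
        · exact Or.inr (by rwa [mul_assoc, hb2, mul_one])
        · exact Or.inl k
  have hDA : ∀ x ∈ D, x ∈ cP P a → inFour c a x := by
    intro x hx hxa
    refine (hDmem x hx).resolve_right fun k => hab ?_
    have h1 := inFour_mem (h.c_mem_cP hA.mem hA.notMem) (h.self_mem_cP hA.mem) k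
    simpa using mul_mem (inv_mem hxa) h1
  have hDZ : ∀ x ∈ D, x ∈ Z → x = 1 ∨ x = c := by
    intro x hx hxZ
    rcases hDA x hx (h.Z_le_cP hA.mem hxZ) with k | k | k | k
    · exact Or.inl k
    · exact Or.inr k
    · exact absurd (k ▸ hxZ) hA.notMem
    · refine absurd ?_ hA.notMem
      simpa [← mul_assoc, h.c_sq] using mul_mem h.c_mem (k ▸ hxZ : c * a ∈ Z)
  have hDB : ∀ x ∈ D, x ∈ cP P b → inFour c b x := by
    intro x hx hxb
    rcases hDmem x hx with k | k
    · rcases k with k | k | k | k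
      · exact Or.inl k
      · exact Or.inr (Or.inl k)
      · exact absurd (k ▸ hxb) haB
      · refine absurd ?_ haB
        simpa [← mul_assoc, h.c_sq] using mul_mem (h.c_mem_cP hB.mem hB.notMem) (k ▸ hxb : c * a ∈ cP P b)
    · have hxe : x = x * b * b := by rw [mul_assoc, hb2, mul_one]
      rcases k with k | k | k | k
      · exact Or.inr (Or.inr (Or.inl (by rw [hxe, k, one_mul])))
      · exact Or.inr (Or.inr (Or.inr (by rw [hxe, k])))
      · refine absurd ?_ haB
        rw [← k]; exact mul_mem hxb (h.self_mem_cP hB.mem)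
      · refine absurd ?_ haB
        have := mul_mem hxb (h.self_mem_cP hB.mem)
        rw [k] at this
        simpa [← mul_assoc, h.c_sq] using mul_mem (h.c_mem_cP hB.mem hB.notMem) this
  have hfour : ∀ {d k₀ : G} (hC : Active P Z c d k₀), d ∈ D → ∀ {n x : G},
      n ∈ normalizer (cP P d : Set G) → inFour c d x → n * x * n⁻¹ ∈ D := fun hC hd _ _ hn hx =>
    inFour_mem hcD hd (hC.invariant_four h hn hx)
  -- `N(P)` normalizes `C_P(a)` and `C_P(b)`
  have hNnorm : ∀ {d k₀ : G} (hC : Active P Z c d k₀) {k : G},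
      k ∈ normalizer ((P : Subgroup G) : Set G) → k ∈ normalizer (cP P d : Set G) := by
    intro d k₀ hC k hk
    refine conjBy_eq_iff.1 (conjBy_eq_of_le (conjBy_le_iff.2 fun x hx => ?_))
    have hxP := (mem_normalizer_iff.1 hk x).1 (cP_le hx)
    have ht := h.normalizer_trivial hnsq hA.mem hA.notMem ha2 hk (cP_le hx)
    have : k * x * k⁻¹ = k * x * k⁻¹ * x⁻¹ * x := (inv_mul_cancel_right _ _).symm
    rw [this]
    exact mul_mem (h.Z_le_cP hC.mem ht) hx
  set Y₁ := compY Z n₀ with hY₁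
  set Y₂ := compY Z m₀ with hY₂
  set T := D ⊔ Y₁ ⊓ Y₂ with hT
  -- focal elements lie in `T`
  have hTle : T ≤ (P : Subgroup G) := sup_le hDP ((inf_le_left.trans inf_le_left).trans h.le)
  have hTn : ∀ p ∈ (P : Subgroup G), ∀ t ∈ T, p * t * p⁻¹ ∈ T := by
    intro p hp t ht
    rcases h.comm p hp t (hTle ht) with e | e <;> rw [e]
    · exact ht
    · exact mul_mem (mem_sup_left hcD) ht
  have hkY : ∀ k ∈ normalizer ((P : Subgroup G) : Set G), ∀ z ∈ Z, k * z * k⁻¹ * z⁻¹ ∈ T := by
    intro k hk z hz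
    have hkc := h.conj_c_eq hk
    have hzc : ∀ z', k * (c * z') * k⁻¹ * (c * z')⁻¹ = c * (k * z' * k⁻¹ * z'⁻¹) * c⁻¹ := fun z' => by
      rw [show k * (c * z') * k⁻¹ = (k * c * k⁻¹) * (k * z' * k⁻¹) by group, hkc]; group
    have inY : ∀ {d k₀ : G} (hC : Active P Z c d k₀), k * z * k⁻¹ * z⁻¹ ∈ compY Z k₀ := by
      intro d k₀ hC
      rcases hC.compY_or h hz with hy | hy
      · exact mul_mem (hC.compY_inv h (hNnorm hC hk) hy) (inv_mem hy)
      · have h1 := mul_mem (hC.compY_inv h (hNnorm hC hk) hy) (inv_mem hy)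
        rw [hzc, ← h.cz (mul_mem ((mem_normalizer_iff.1 hk z).1 (h.le hz)) (inv_mem (h.le hz))),
          mul_inv_cancel_right] at h1
        exact h1
    exact mem_sup_right ⟨inY hA, inY hB⟩
  have hkT : ∀ k ∈ normalizer ((P : Subgroup G) : Set G), ∀ x ∈ (P : Subgroup G),
      k * x * k⁻¹ * x⁻¹ ∈ T := by
    intro k hk
    let K : Subgroup G :=
      { carrier := {x | x ∈ (P : Subgroup G) ∧ k * x * k⁻¹ * x⁻¹ ∈ T}
        one_mem' := ⟨one_mem _, by simp⟩
        mul_mem' := fun {x y} hx hy => ⟨mul_mem hx.1 hy.1, by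
          rw [show k * (x * y) * k⁻¹ * (x * y)⁻¹ =
            (k * x * k⁻¹ * x⁻¹) * (x * (k * y * k⁻¹ * y⁻¹) * x⁻¹) by group]
          exact mul_mem hx.2 (hTn x hx.1 _ hy.2)⟩
        inv_mem' := fun {x} hx => ⟨inv_mem hx.1, by
          have h1 := inv_mem (hTn x⁻¹ (inv_mem hx.1) _ hx.2)
          rwa [show (x⁻¹ * (k * x * k⁻¹ * x⁻¹) * x⁻¹⁻¹)⁻¹ = k * x⁻¹ * k⁻¹ * x⁻¹⁻¹ by
            simp [mul_assoc]] at h1⟩ }
    have haK : a ∈ K := ⟨hA.mem, mem_sup_left (mul_mem
      (hfour hA haD (hNnorm hA hk) (Or.inr (Or.inr (Or.inl rfl)))) (inv_mem haD))⟩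
    have hbK : b ∈ K := ⟨hB.mem, mem_sup_left (mul_mem
      (hfour hB hbD (hNnorm hB hk) (Or.inr (Or.inr (Or.inl rfl)))) (inv_mem hbD))⟩
    intro x hx
    have key : ∀ w ∈ K, x * w ∈ Z → x ∈ K := fun w hw hz => by
      simpa using mul_mem (⟨h.le hz, hkY k hk _ hz⟩ : x * w ∈ K) (inv_mem hw)
    refine (?_ : x ∈ K).2
    rcases h.cos a hA.mem b hB.mem hA.notMem hB.notMem (fun e => hba (h.mul_mem_Z_comm hA.mem e))
      x hx with e | e | e | e
    · exact ⟨h.le e, hkY k hk x e⟩
    · exact key a haK e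
    · exact key b hbK e
    · exact key _ (mul_mem haK hbK) e
  have hstep : ∀ {d k₀ : G} (hC : Active P Z c d k₀), d ∈ D → ∀ {n x : G},
      n ∈ normalizer (cP P d : Set G) → x ∈ cP P d → x⁻¹ * (n * x * n⁻¹) ∈ T := by
    intro d k₀ hC hd n x hn hx
    have hfd : ∀ y, inFour c d y → y⁻¹ * (n * y * n⁻¹) ∈ T := fun y hy =>
      mem_sup_left (mul_mem (inv_mem (inFour_mem hcD hd hy)) (hfour hC hd hn hy))
    have hY : ∀ y ∈ compY Z k₀, y⁻¹ * (n * y * n⁻¹) ∈ T := by
      intro y hy
      obtain ⟨k, hk, hka⟩ := hC.exists_act h hn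
      have hyP := h.le (hC.compY_le h hy)
      rw [hka y hy, show y⁻¹ * (k * y * k⁻¹) = y⁻¹ * (k * y * k⁻¹ * y⁻¹) * y⁻¹⁻¹ by group]
      exact hTn _ (inv_mem hyP) _ (hkT k hk y hyP)
    -- `x` is a product of an element of `{1, c, d, cd}` and an element of `Y`
    obtain ⟨v, hv, y, hy, rfl⟩ : ∃ v, inFour c d v ∧ ∃ y ∈ compY Z k₀, x = v * y := by
      rcases ((h.cP_iff hC.mem hC.notMem).1 hx).2 with k | k
      · rcases hC.compY_or h k with hy | hy
        · exact ⟨1, Or.inl rfl, x, hy, (one_mul x).symm⟩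
        · exact ⟨c, Or.inr (Or.inl rfl), c * x, hy, by rw [← mul_assoc, h.c_sq, one_mul]⟩
      · have e : x = d * (x * d) := by
          rw [← mul_assoc, ← (mem_cP.1 hx).2, mul_assoc, hC.self_mul h, mul_one]
        rcases hC.compY_or h k with hy | hy
        · exact ⟨d, Or.inr (Or.inr (Or.inl rfl)), x * d, hy, e⟩
        · refine ⟨c * d, Or.inr (Or.inr (Or.inr rfl)), c * (x * d), hy, ?_⟩
          rw [← h.cz hC.mem, mul_assoc, ← mul_assoc c c, h.c_sq, one_mul, ← e]
    have hyP : y ∈ (P : Subgroup G) := h.le (hC.compY_le h hy)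
    rw [show (v * y)⁻¹ * (n * (v * y) * n⁻¹) =
      (y⁻¹ * (v⁻¹ * (n * v * n⁻¹)) * y⁻¹⁻¹) * (y⁻¹ * (n * y * n⁻¹)) by group]
    exact mul_mem (hTn _ (inv_mem hyP) _ (hfd v hv)) (hY y hy)
  have hfoc := CfsgLib.DDProd.commutator_inf_le P T (fun E hE x hx e he => by
    rcases h.step_cases hE (inv_mem hx) with ⟨k, hk, hka⟩ | ⟨d, k₀, hC, rfl⟩
    · have h1 := hka e he
      rw [inv_inv] at h1
      rw [h1, show e⁻¹ * (k * e * k⁻¹) = e⁻¹ * (k * e * k⁻¹ * e⁻¹) * e⁻¹⁻¹ by group]
      exact hTn _ (inv_mem (hE.1 he)) _ (hkT k hk e (hE.1 he))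
    · rcases Active.third_coset h hA hB hab hC with e' | e' <;> rw [e'] at he hx
      · have := hstep hA haD (inv_mem hx) he
        rwa [inv_inv] at this
      · have := hstep hB hbD (inv_mem hx) he
        rwa [inv_inv] at this)
  rw [commutator_eq_top h, top_inf_eq] at hfoc
  -- hence the two complements agree
  have hle₁ : Y₁ ⊓ Y₂ ≤ Z := inf_le_left.trans inf_le_left
  have hsplit : ∀ z ∈ Z, z ∈ Y₁ ⊓ Y₂ ∨ c * z ∈ Y₁ ⊓ Y₂ := by
    intro z hz
    have hn : Y₁ ⊓ Y₂ ≤ normalizer (D : Set G) := by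
      refine fun y hy => centralizer_le_normalizer _ (mem_centralizer_iff.2 fun d hd => ?_)
      exact h.central y (hle₁ hy) d (hDP hd)
    have hz' : z ∈ (D : Set G) * ((Y₁ ⊓ Y₂ : Subgroup G) : Set G) := by
      rw [← coe_mul_of_right_le_normalizer_left _ _ hn]; exact hfoc (h.le hz)
    obtain ⟨d, hd, y, hy, rfl⟩ := hz'
    have hdZ : d ∈ Z := by simpa using mul_mem hz (inv_mem (hle₁ hy))
    rcases hDZ d hd hdZ with rfl | rfl
    · left; simp only [one_mul]; exact hy
    · right; simp only [← mul_assoc, h.c_sq, one_mul]; exact hy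
  have hY₂₁ : Y₁ = Y₂ := by
    refine le_antisymm (fun y hy => ?_) (fun y hy => ?_)
    · rcases hsplit y (hA.compY_le h hy) with k | k
      · exact k.2
      · exact absurd (show c ∈ Y₁ by simpa using mul_mem (mem_inf.1 k).1 (inv_mem hy)) (hA.compY_c h)
    · rcases hsplit y (hB.compY_le h hy) with k | k
      · exact k.1
      · exact absurd (show c ∈ Y₂ by simpa using mul_mem (mem_inf.1 k).2 (inv_mem hy)) (hB.compY_c h)
  -- `D` and `Y` are strongly closed
  have closed : ∀ S : Subgroup G, S ≤ (P : Subgroup G) →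
      (∀ k ∈ normalizer ((P : Subgroup G) : Set G), ∀ x ∈ S, k * x * k⁻¹ ∈ S) →
      (∀ n ∈ normalizer (cP P a : Set G), ∀ x ∈ S, x ∈ cP P a → n * x * n⁻¹ ∈ S) →
      (∀ n ∈ normalizer (cP P b : Set G), ∀ x ∈ S, x ∈ cP P b → n * x * n⁻¹ ∈ S) →
      Cfsg.IsStronglyClosed S (P : Subgroup G) := by
    intro S hS hk ha hb
    refine ⟨hS, fun x hx g hg => ?_⟩
    have hR := CfsgLib.DDProd.rel_of_good P (fun u w => u ∈ S → w ∈ S) (fun u _ => id)
      (fun u w d h1 h2 => h2 ∘ h1) (fun E hE y hy e he heS => by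
        rcases h.step_cases hE (inv_mem hy) with ⟨k, hk', hka⟩ | ⟨d, k₀, hC, rfl⟩
        · have h1 := hka e he
          rw [inv_inv] at h1
          rw [h1]; exact hk k hk' e heS
        · rcases Active.third_coset h hA hB hab hC with e' | e' <;> rw [e'] at he hy
          · simpa using ha _ (inv_mem hy) e heS he
          · simpa using hb _ (inv_mem hy) e heS he)
      (a := x) (g := g⁻¹) (hS hx) (by rwa [inv_inv]) hx
    rwa [inv_inv] at hR
  have scD : Cfsg.IsStronglyClosed D (P : Subgroup G) := by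
    refine closed D hDP (fun k hk x hx => ?_)
      (fun n hn x hx hxa => hfour hA haD hn (hDA x hx hxa))
      (fun n hn x hx hxb => hfour hB hbD hn (hDB x hx hxb))
    have hgen : D ≤ D.comap (MulAut.conj k).toMonoidHom := (closure_le _).2 (by
      rintro y (rfl | rfl)
      · exact hfour hA haD (hNnorm hA hk) (Or.inr (Or.inr (Or.inl rfl)))
      · exact hfour hB hbD (hNnorm hB hk) (Or.inr (Or.inr (Or.inl rfl))))
    exact hgen hx
  have scY : Cfsg.IsStronglyClosed Y₁ (P : Subgroup G) :=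
    closed Y₁ ((hA.compY_le h).trans h.le) (fun k hk x hx => hA.compY_inv h (hNnorm hA hk) hx)
      (fun n hn x hx _ => hA.compY_inv h hn hx)
      (fun n hn x hx _ => by
        rw [hY₂₁] at hx ⊢
        exact hB.compY_inv h hn hx)
  have hDY : D ⊓ Y₁ = ⊥ := by
    rw [eq_bot_iff]
    rintro x ⟨hxD, hxY⟩
    rcases hDZ x hxD (hA.compY_le h hxY) with rfl | rfl
    · exact one_mem _
    · exact absurd hxY (hA.compY_c h)
  have hprod := CfsgLib.ProdFusion.commutator_normalClosure_le P scD scY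
    (fun x hx y hy => h.central y (hA.compY_le h hy) x (hDP hx)) hDY
  rw [pPrimeCore_two_eq_bot P fun e => h.c_ne (mem_bot.1 (e ▸ h.c_memP)), le_bot_iff] at hprod
  have hY : Y₁ = ⊥ := by
    by_contra hne
    have top : ∀ S : Subgroup G, S ≠ ⊥ → Subgroup.normalClosure (S : Set G) = ⊤ := fun S hS =>
      ((inferInstance : (Subgroup.normalClosure (S : Set G)).Normal).eq_bot_or_eq_top).resolve_left
        fun e => hS (le_bot_iff.1 (le_normalClosure.trans e.le))
    rw [top D (fun e => h.c_ne (mem_bot.1 (e ▸ hcD))), top Y₁ hne, ← _root_.commutator_def,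
      commutator_eq_top h] at hprod
    exact h.c_ne (mem_bot.1 (hprod ▸ mem_top c))
  -- so `P = D`
  have hPD : (P : Subgroup G) = D := by
    refine le_antisymm (hfoc.trans (sup_le le_rfl ?_)) hDP
    rw [hY]; exact inf_le_left.trans bot_le
  have hao : orderOf a = 2 := CfsgLib.Invol.invol_iff.2 ⟨ha2, fun e => hA.notMem (e ▸ one_mem _)⟩
  have hbo : orderOf b = 2 := CfsgLib.Invol.invol_iff.2 ⟨hb2, fun e => hB.notMem (e ▸ one_mem _)⟩
  have hab4 : orderOf (a * b) = 4 := by
    have hsq := h.mul_sq_eq hA.mem hB.mem hA.notMem hba hB.notMem ha2 hb2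
    refine orderOf_eq_prime_pow (p := 2) (n := 1) ?_ ?_
    · rw [pow_one, pow_two, hsq]; exact h.c_ne
    · rw [show 2 ^ (1 + 1) = 2 * 2 by norm_num, pow_mul, pow_two, pow_two, hsq, h.c_sq]
  exact ⟨(MulEquiv.subgroupCongr hPD).trans (hab4 ▸ CfsgLib.Invol.dihedralEquiv hao hbo)⟩

end CfsgLib.QuasiFour.Simple

namespace CfsgLib.QuasiFour

/-- **A nonabelian Sylow 2-subgroup with centre of index four in a simple group is dihedral of order eight.** -/
theorem dihedral_eight_of_center_index_four {G : Type*} [Group G] [Finite G] [IsSimpleGroup G]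
    (P : Sylow 2 G) (hna : ¬ IsMulCommutative (P : Subgroup G))
    (hZ : (Subgroup.center (P : Subgroup G)).index = 4) :
    Nonempty ((P : Subgroup G) ≃* DihedralGroup 4) := by
  obtain ⟨Z, c, h⟩ := Simple.exists_frame P hna hZ
  exact Simple.main h

end CfsgLib.QuasiFour
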