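import Cfsg.Agent.Lib.QuasiFour.SimpleLocal

/-!
# Sylow 2-subgroups with centre of index four: active subgroups and `N(P)`

`Active P Z c a n₀`: `n₀ ∈ N(C_P(a))` moves `c` to `a`.
-/

set_option autoImplicit false
set_option linter.unusedSectionVars false
set_option linter.style.haveILetI false

open Subgroup

namespace CfsgLib.QuasiFour.Simple

open CfsgLib.Fusion CfsgLib.Fusion.Goldschmidt

universe u

variable {G : Type u} [Group G] [Finite G]

/-- `C_P(a)` is active, moving `c` to `a`. -/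
structure Active (P : Sylow 2 G) (Z : Subgroup G) (c a n₀ : G) : Prop where
  mem : a ∈ (P : Subgroup G)
  notMem : a ∉ Z
  norm : n₀ ∈ normalizer (cP P a : Set G)
  map_c : n₀ * c * n₀⁻¹ = a

/-- The elements of `Z` which `n₀` keeps in `Z`. -/
def compY (Z : Subgroup G) (n₀ : G) : Subgroup G := Z ⊓ conjBy n₀ Z

omit [Finite G] in
theorem mem_compY {Z : Subgroup G} {n₀ y : G} : y ∈ compY Z n₀ ↔ y ∈ Z ∧ n₀⁻¹ * y * n₀ ∈ Z := by
  rw [compY, mem_inf, mem_conjBy]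

namespace Frame

variable {P : Sylow 2 G} {Z : Subgroup G} {c : G} (h : Frame P Z c)
include h

theorem conj_Z {n z : G} (hn : n ∈ normalizer ((P : Subgroup G) : Set G)) (hz : z ∈ Z) :
    n * z * n⁻¹ ∈ Z := by
  refine h.mem_Z _ ((mem_normalizer_iff.1 hn z).1 (h.le hz)) fun y hy => ?_
  have hy' : n⁻¹ * y * n ∈ (P : Subgroup G) := by
    simpa using (mem_normalizer_iff.1 (inv_mem hn) y).1 hy
  calc y * (n * z * n⁻¹) = n * ((n⁻¹ * y * n) * z) * n⁻¹ := by group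
    _ = n * (z * (n⁻¹ * y * n)) * n⁻¹ := by rw [h.central z hz _ hy']
    _ = n * z * n⁻¹ * y := by group

theorem conj_Z' {n z : G} (hn : n ∈ normalizer ((P : Subgroup G) : Set G)) (hz : n * z * n⁻¹ ∈ Z) :
    z ∈ Z := by
  have := h.conj_Z (inv_mem hn) hz
  simpa [mul_assoc] using this

theorem conj_c_eq {n : G} (hn : n ∈ normalizer ((P : Subgroup G) : Set G)) : n * c * n⁻¹ = c := by
  obtain ⟨u, hu, v, hv, hu', hv', huv⟩ := h.pair
  have hne : v * u * v⁻¹ ≠ u := fun e => by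
    rcases (h.comm_iff hu hu' hv).1 (mul_inv_eq_iff_eq_mul.1 e) with k | k
    · exact hv' k
    · exact huv (h.mul_mem_Z_comm hv k)
  have hc : v * u * v⁻¹ = c * u := (h.comm v hv u hu).resolve_left hne
  have hm : ∀ {x}, x ∈ (P : Subgroup G) → n * x * n⁻¹ ∈ (P : Subgroup G) := fun hx =>
    (mem_normalizer_iff.1 hn _).1 hx
  have e : (n * v * n⁻¹) * (n * u * n⁻¹) * (n * v * n⁻¹)⁻¹ = (n * c * n⁻¹) * (n * u * n⁻¹) := by
    rw [show n * v * n⁻¹ * (n * u * n⁻¹) * (n * v * n⁻¹)⁻¹ = n * (v * u * v⁻¹) * n⁻¹ by group, hc]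
    group
  rcases h.comm _ (hm hv) _ (hm hu) with k | k <;> rw [e] at k
  · exact absurd (conj_eq_one_iff.1 (mul_eq_right.1 k)) h.c_ne
  · exact mul_right_cancel k

theorem mul_sq_eq {a b : G} (ha : a ∈ (P : Subgroup G)) (hb : b ∈ (P : Subgroup G)) (ha' : a ∉ Z)
    (hba : b * a ∉ Z) (hb' : b ∉ Z) (ha2 : a * a = 1) (hb2 : b * b = 1) : a * b * (a * b) = c := by
  have hne : a * b * a⁻¹ ≠ b := fun e => by
    rcases (h.comm_iff hb hb' ha).1 (mul_inv_eq_iff_eq_mul.1 e) with k | k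
    · exact ha' k
    · exact hba (h.mul_mem_Z_comm ha k)
  have e := (h.comm a ha b hb).resolve_left hne
  rw [inv_eq_of_mul_eq_one_right ha2] at e
  calc a * b * (a * b) = a * b * a * b := by rw [← mul_assoc]
    _ = c := by rw [e, mul_assoc, hb2, mul_one]

/-- Three involutions in the three nontrivial cosets make `c` a square in `Z`. -/
theorem no_triple (hns : ∀ z ∈ Z, z * z ≠ c) {a b x : G} (ha : a ∈ (P : Subgroup G))
    (hb : b ∈ (P : Subgroup G)) (hx : x ∈ (P : Subgroup G)) (ha' : a ∉ Z) (hb' : b ∉ Z)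
    (hba : b * a ∉ Z) (ha2 : a * a = 1) (hb2 : b * b = 1) (hx2 : x * x = 1)
    (hxab : x * (a * b) ∈ Z) : False := by
  set z := x * (a * b) with hz
  have hw : a * b * (a * b) = c := h.mul_sq_eq ha hb ha' hba hb' ha2 hb2
  refine hns z hxab ?_
  have hc : Commute z (a * b) := (h.central z hxab _ (mul_mem ha hb)).symm
  have hx' : x = z * (a * b)⁻¹ := by rw [hz, mul_inv_cancel_right]
  have h1 : z * z = x * x * (a * b * (a * b)) := by
    rw [hx', show z * (a * b)⁻¹ * (z * (a * b)⁻¹) = z * ((a * b)⁻¹ * z) * (a * b)⁻¹ by group,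
      (hc.inv_right).symm.eq]
    group
  rw [h1, hx2, hw, one_mul]

/-- `N(P)` fixes the cosets of `Z`, given an involution outside `Z`. -/
theorem normalizer_trivial (hns : ∀ z ∈ Z, z * z ≠ c) {a : G} (ha : a ∈ (P : Subgroup G))
    (ha' : a ∉ Z) (ha2 : a * a = 1) {n : G} (hn : n ∈ normalizer ((P : Subgroup G) : Set G))
    {u : G} (hu : u ∈ (P : Subgroup G)) : n * u * n⁻¹ * u⁻¹ ∈ Z := by
  haveI : Fact (Nat.Prime 2) := ⟨Nat.prime_two⟩
  set S := (P : Subgroup G) with hS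
  have hm : ∀ {m x}, m ∈ normalizer (S : Set G) → x ∈ S → m * x * m⁻¹ ∈ S := fun hm hx =>
    (mem_normalizer_iff.1 hm _).1 hx
  -- elements fixing all cosets
  let M : Subgroup G :=
    { carrier := {m | m ∈ normalizer (S : Set G) ∧ ∀ x ∈ S, m * x * m⁻¹ * x⁻¹ ∈ Z}
      one_mem' := ⟨one_mem _, fun x _ => by simp⟩
      mul_mem' := fun {m m'} hm1 hm2 => ⟨mul_mem hm1.1 hm2.1, fun x hx => by
        have e : m * m' * x * (m * m')⁻¹ * x⁻¹ =
            (m * (m' * x * m'⁻¹) * m⁻¹ * (m' * x * m'⁻¹)⁻¹) * (m' * x * m'⁻¹ * x⁻¹) := by group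
        rw [e]
        exact mul_mem (hm1.2 _ (hm hm2.1 hx)) (hm2.2 x hx)⟩
      inv_mem' := fun {m} hm1 => ⟨inv_mem hm1.1, fun x hx => by
        have hx' : m⁻¹ * x * m ∈ S := by simpa using hm (inv_mem hm1.1) hx
        have e : m⁻¹ * x * m⁻¹⁻¹ * x⁻¹ = (m * (m⁻¹ * x * m) * m⁻¹ * (m⁻¹ * x * m)⁻¹)⁻¹ := by group
        rw [e]
        exact inv_mem (hm1.2 _ hx')⟩ }
  have hSM : S ≤ M := fun p hp => ⟨le_normalizer hp, fun x hx => by
    rcases h.comm p hp x hx with e | e <;> rw [e]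
    · rw [mul_inv_cancel]; exact one_mem _
    · rw [mul_inv_cancel_right]; exact h.c_mem⟩
  have hsqM : ∀ m ∈ normalizer (S : Set G), m * m ∈ M := by
    intro m hmn
    refine ⟨mul_mem hmn hmn, ?_⟩
    have two : ∀ x : G, m * m * x * (m * m)⁻¹ = m * (m * x * m⁻¹) * m⁻¹ := fun x => by group
    -- the set of fixed cosets is a subgroup
    let K : Subgroup G :=
      { carrier := {x | x ∈ S ∧ m * m * x * (m * m)⁻¹ * x⁻¹ ∈ Z}
        one_mem' := ⟨one_mem _, by simp⟩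
        mul_mem' := fun {x y} hx hy => ⟨mul_mem hx.1 hy.1, by
          have e : m * m * (x * y) * (m * m)⁻¹ * (x * y)⁻¹ =
              (m * m * x * (m * m)⁻¹) * (m * m * y * (m * m)⁻¹ * y⁻¹) * x⁻¹ := by group
          rw [e, h.central _ hy.2 _ (hm (mul_mem hmn hmn) hx.1), mul_assoc]
          exact mul_mem hy.2 hx.2⟩
        inv_mem' := fun {x} hx => ⟨inv_mem hx.1, by
          have e : m * m * x⁻¹ * (m * m)⁻¹ * x⁻¹⁻¹ = x⁻¹ * (m * m * x * (m * m)⁻¹ * x⁻¹)⁻¹ * x := by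
            simp [mul_assoc]
          rw [e, h.central _ (inv_mem hx.2) _ (inv_mem hx.1), inv_mul_cancel_right]
          exact inv_mem hx.2⟩ }
    set a₁ := m * a * m⁻¹ with ha₁
    have ha₁S : a₁ ∈ S := hm hmn ha
    have ha₁' : a₁ ∉ Z := fun k => ha' (h.conj_Z' hmn k)
    have conj2 : ∀ x, m * x * m⁻¹ * (m * x * m⁻¹) = m * (x * x) * m⁻¹ := fun x => by group
    have ha₁2 : a₁ * a₁ = 1 := by rw [ha₁, conj2, ha2]; group
    have back : ∀ x y : G, x * y ∈ Z → y * y ∈ Z → x * y⁻¹ ∈ Z := fun x y h1 h2 => by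
      rw [show x * y⁻¹ = x * y * (y * y)⁻¹ by group]; exact mul_mem h1 (inv_mem h2)
    by_cases hfix : a₁ * a ∈ Z
    · -- the coset of `a` is fixed
      intro x hx
      have hza : a₁ * a⁻¹ ∈ Z := back _ _ hfix (h.sq a ha)
      have haK : a ∈ K := by
        refine ⟨ha, ?_⟩
        rw [two, ← ha₁, show m * a₁ * m⁻¹ * a⁻¹ =
          (m * (a₁ * a⁻¹) * m⁻¹) * (m * a * m⁻¹ * a⁻¹) by group, ← ha₁]
        exact mul_mem (h.conj_Z hmn hza) hza
      by_cases hxa : x ∈ cP P a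
      · rcases ((h.cP_iff ha ha').1 hxa).2 with k | k
        · exact mul_mem (h.conj_Z (mul_mem hmn hmn) k) (inv_mem k)
        · have : x = (x * a) * a⁻¹ := (mul_inv_cancel_right _ _).symm
          rw [this]
          refine (mul_mem (⟨h.le k, ?_⟩ : x * a ∈ K) (inv_mem haK) : _ ∈ K).2
          exact mul_mem (h.conj_Z (mul_mem hmn hmn) k) (inv_mem k)
      · set x₁ := m * x * m⁻¹ with hx₁
        have hx₁S : x₁ ∈ S := hm hmn hx
        have hx₁a : x₁ ∉ cP P a := by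
          intro k
          refine hxa ((h.cP_iff ha ha').2 ⟨hx, ?_⟩)
          rcases ((h.cP_iff ha ha').1 k).2 with k' | k'
          · exact Or.inl (h.conj_Z' hmn k')
          · refine Or.inr (h.conj_Z' hmn ?_)
            rw [show m * (x * a) * m⁻¹ = (x₁ * a) * (a⁻¹ * (m * a * m⁻¹)) by rw [hx₁]; group, ← ha₁]
            refine mul_mem k' ?_
            rw [show a⁻¹ * a₁ = a⁻¹ * (a₁ * a⁻¹) * a by group, h.central _ hza _ (inv_mem ha),
              inv_mul_cancel_right]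
            exact hza
        have hd := h.inv_mul_mem ha ha' hx₁S hx hx₁a hxa
        have h1 : x₁ * x⁻¹ ∈ Z ∨ x₁ * x⁻¹ * a⁻¹ ∈ Z := by
          have hd' : x₁ * x⁻¹ ∈ cP P a := by
            rw [show x₁ * x⁻¹ = x * (x⁻¹ * x₁) * x⁻¹ by group]
            exact (mem_normalizer_iff.1 (h.le_normalizer_cP ha hx) _).1 hd
          rcases ((h.cP_iff ha ha').1 hd').2 with k | k
          · exact Or.inl k
          · exact Or.inr (back _ _ k (h.sq a ha))
        rcases h1 with k | k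
        · rw [two, ← hx₁, show m * x₁ * m⁻¹ * x⁻¹ = (m * (x₁ * x⁻¹) * m⁻¹) * (x₁ * x⁻¹) by
            rw [hx₁]; group]
          exact mul_mem (h.conj_Z hmn k) k
        · set z := x₁ * x⁻¹ * a⁻¹ with hz
          have e : m * m * x * (m * m)⁻¹ * x⁻¹ = (m * z * m⁻¹) * a₁ * (z * a) := by
            rw [hz, ha₁, hx₁]; group
          rw [e, show (m * z * m⁻¹) * a₁ * (z * a) = (m * z * m⁻¹) * ((a₁ * z) * a) by group,
            h.central z k a₁ ha₁S, mul_assoc z]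
          exact mul_mem (h.conj_Z hmn k) (mul_mem k hfix)
    · set a₂ := m * a₁ * m⁻¹ with ha₂
      have ha₂S : a₂ ∈ S := hm hmn ha₁S
      have ha₂2 : a₂ * a₂ = 1 := by rw [ha₂, conj2, ha₁2]; group
      have key : a₂ * a ∈ Z := by
        rcases h.cos a ha a₁ ha₁S ha' ha₁' (fun k => hfix (h.mul_mem_Z_comm ha k)) a₂ ha₂S with
          k | k | k | k
        · exact absurd (h.conj_Z' hmn k) ha₁'
        · exact k
        · exfalso
          refine hfix (h.conj_Z' hmn ?_)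
          rw [show m * (a₁ * a) * m⁻¹ = a₂ * a₁ by rw [ha₂, ha₁]; group]
          exact k
        · exact (h.no_triple hns ha ha₁S ha₂S ha' ha₁' hfix ha2 ha₁2 ha₂2 k).elim
      have hz := back _ _ key (h.sq a ha)
      have haK : a ∈ K := ⟨ha, by rw [two, ← ha₁, ← ha₂]; exact hz⟩
      have ha₁K : a₁ ∈ K := ⟨ha₁S, by
        rw [two, ← ha₂, show m * a₂ * m⁻¹ * a₁⁻¹ = m * (a₂ * a⁻¹) * m⁻¹ by rw [ha₁]; group]
        exact h.conj_Z hmn hz⟩
      intro x hx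
      have hZK : ∀ z ∈ Z, z ∈ K := fun z hz =>
        ⟨h.le hz, mul_mem (h.conj_Z (mul_mem hmn hmn) hz) (inv_mem hz)⟩
      have back' : ∀ w ∈ K, x * w ∈ Z → x ∈ K := fun w hw hz' => by
        simpa using mul_mem (hZK _ hz') (inv_mem hw)
      refine (?_ : x ∈ K).2
      rcases h.cos a ha a₁ ha₁S ha' ha₁' (fun k => hfix (h.mul_mem_Z_comm ha k)) x hx with
        k | k | k | k
      · exact hZK x k
      · exact back' a haK k
      · exact back' a₁ ha₁K k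
      · exact back' _ (mul_mem haK ha₁K) k
  -- `N(P)` modulo `M` has exponent two, and its `2`-elements lie in `P`
  obtain ⟨k, o, ho, hko⟩ := Nat.exists_eq_two_pow_mul_odd (orderOf_pos n).ne'
  have h1 : n ^ o ∈ M := by
    refine hSM ?_
    have hp : (n ^ o) ^ 2 ^ k = 1 := by rw [← pow_mul, mul_comm, ← hko, pow_orderOf_eq_one]
    set R := zpowers (n ^ o) with hR
    have hRp : IsPGroup 2 R := IsPGroup.of_card (n := (orderOf (n ^ o)).factorization 2) (by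
      rw [Nat.card_zpowers]
      obtain ⟨i, -, hi⟩ := (Nat.dvd_prime_pow Nat.prime_two).1 (orderOf_dvd_of_pow_eq_one hp)
      rw [hi, Nat.Prime.factorization_pow Nat.prime_two, Finsupp.single_eq_same])
    have hRS : IsPGroup 2 ↥(R ⊔ S) :=
      IsPGroup.to_sup_of_normal_right' hRp P.2 ((zpowers_le).2 (pow_mem hn o))
    show n ^ o ∈ (P : Subgroup G)
    rw [← P.is_maximal' hRS le_sup_right]
    exact mem_sup_left (mem_zpowers _)
  obtain ⟨i, hi⟩ := ho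
  have : n ∈ M := by
    have h2 : (n * n) ^ i ∈ M := pow_mem (hsqM n hn) i
    have e : n = ((n * n) ^ i)⁻¹ * n ^ o := by
      rw [← pow_two, ← pow_mul, hi, pow_succ, inv_mul_cancel_left]
    rw [e]
    exact mul_mem (inv_mem h2) h1
  exact this.2 u hu

end Frame

namespace Active

variable {P : Sylow 2 G} {Z : Subgroup G} {c a n₀ : G} (hA : Active P Z c a n₀) (h : Frame P Z c)
include hA h

theorem self_mul : a * a = 1 := by
  rw [← hA.map_c, show n₀ * c * n₀⁻¹ * (n₀ * c * n₀⁻¹) = n₀ * (c * c) * n₀⁻¹ by group, h.c_sq]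
  group

theorem sq_ne : ∀ z ∈ Z, z * z ≠ c := by
  intro z hz e
  refine hA.notMem ?_
  rw [← hA.map_c, ← e, show n₀ * (z * z) * n₀⁻¹ = (n₀ * z * n₀⁻¹) * (n₀ * z * n₀⁻¹) by group]
  exact h.sq _ (cP_le (Frame.conj_mem hA.norm (h.Z_le_cP hA.mem hz)))

theorem map_inv_ne : n₀⁻¹ * c * n₀ ≠ c := by
  intro e
  refine hA.notMem ?_
  have : a = c := by
    rw [← hA.map_c]; nth_rewrite 1 [← e]; group
  rw [this]; exact h.c_mem

/-- The conjugates of `c` under `N(A)`. -/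
theorem orbit {n : G} (hn : n ∈ normalizer (cP P a : Set G)) :
    n * c * n⁻¹ = c ∨ n * c * n⁻¹ = a ∨ n * c * n⁻¹ = c * a := by
  obtain ⟨v, hv, hv'⟩ := h.exists_notMem hA.mem hA.notMem
  set k := n₀⁻¹ * n with hk
  have hkn : k ∈ normalizer (cP P a : Set G) := mul_mem (inv_mem hA.norm) hn
  by_cases hck : k * c * k⁻¹ = c
  · refine Or.inr (Or.inl ?_)
    calc n * c * n⁻¹ = n₀ * (k * c * k⁻¹) * n₀⁻¹ := by rw [hk]; group
      _ = a := by rw [hck, hA.map_c]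
  rcases h.conj_c hA.mem hA.notMem hv hv' hn with ⟨e, -⟩ | ⟨-, hnZ, -⟩
  · exact Or.inl e
  obtain ⟨-, hkZ, -⟩ := (h.conj_c hA.mem hA.notMem hv hv' hkn).resolve_left fun e => hck e.1
  have hcn : n * c * n⁻¹ ∈ cP P a := Frame.conj_mem hn (h.c_mem_cP hA.mem hA.notMem)
  have hck' : k * c * k⁻¹ ∈ cP P a := Frame.conj_mem hkn (h.c_mem_cP hA.mem hA.notMem)
  have hvk := ((h.act_v hA.mem hA.notMem hv hv' hck').resolve_left fun e => hkZ e.1).2
  have hvN := h.le_normalizer_cP hA.mem hv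
  have e : a * (n * c * n⁻¹) = (n₀ * v * k) * c * (n₀ * v * k)⁻¹ := by
    rw [show n₀ * v * k * c * (n₀ * v * k)⁻¹ = n₀ * (v * (k * c * k⁻¹) * v⁻¹) * n₀⁻¹ by group, hvk,
      ← hA.map_c, hk]
    group
  have hz := h.mul_mem_Z hA.mem hA.notMem (h.self_mem_cP hA.mem) hcn hA.notMem hnZ
  rcases h.conj_c hA.mem hA.notMem hv hv' (mul_mem (mul_mem hA.norm hvN) hkn) with ⟨e', -⟩ | ⟨-, e', -⟩
  · refine Or.inr (Or.inr ?_)
    rw [e', ← eq_inv_mul_iff_mul_eq, inv_eq_of_mul_eq_one_right (hA.self_mul h), h.cz hA.mem] at e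
    exact e
  · exact absurd (e ▸ hz) e'

theorem invariant_four {n x : G} (hn : n ∈ normalizer (cP P a : Set G))
    (hx : x = 1 ∨ x = c ∨ x = a ∨ x = c * a) :
    n * x * n⁻¹ = 1 ∨ n * x * n⁻¹ = c ∨ n * x * n⁻¹ = a ∨ n * x * n⁻¹ = c * a := by
  obtain ⟨v, hv, hv'⟩ := h.exists_notMem hA.mem hA.notMem
  rcases hx with rfl | rfl | rfl | rfl
  · left; group
  · exact Or.inr (hA.orbit h hn)
  · refine Or.inr ?_
    have := hA.orbit h (mul_mem hn hA.norm)
    rwa [show n * n₀ * c * (n * n₀)⁻¹ = n * (n₀ * c * n₀⁻¹) * n⁻¹ by group, hA.map_c] at this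
  · refine Or.inr ?_
    have e : v * a * v⁻¹ = c * a :=
      ((h.act_v hA.mem hA.notMem hv hv' (h.self_mem_cP hA.mem)).resolve_left fun k => hA.notMem k.1).2
    have := hA.orbit h (mul_mem hn (mul_mem (h.le_normalizer_cP hA.mem hv) hA.norm))
    rwa [show n * (v * n₀) * c * (n * (v * n₀))⁻¹ = n * (v * (n₀ * c * n₀⁻¹) * v⁻¹) * n⁻¹ by group,
      hA.map_c, e] at this

theorem compY_le : compY Z n₀ ≤ Z := inf_le_left

theorem compY_c : c ∉ compY Z n₀ := by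
  intro hc
  obtain ⟨v, hv, hv'⟩ := h.exists_notMem hA.mem hA.notMem
  have h1 := (mem_compY.1 hc).2
  rcases h.conj_c hA.mem hA.notMem hv hv' (inv_mem hA.norm) with ⟨e, -⟩ | ⟨-, e, -⟩
  · rw [inv_inv] at e; exact hA.map_inv_ne h e
  · rw [inv_inv] at e; exact e h1

/-- For all `n` the conjugate of `Y` stays in `Z`. -/
theorem compY_all {n y : G} (hn : n ∈ normalizer (cP P a : Set G)) (hy : y ∈ compY Z n₀) :
    n⁻¹ * y * n ∈ Z := by
  obtain ⟨v, hv, hv'⟩ := h.exists_notMem hA.mem hA.notMem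
  obtain ⟨hyZ, hy0⟩ := mem_compY.1 hy
  have hyA := h.Z_le_cP hA.mem hyZ
  have same : ∀ m ∈ normalizer (cP P a : Set G), n * c * n⁻¹ = m * c * m⁻¹ → m⁻¹ * y * m ∈ Z →
      n⁻¹ * y * n ∈ Z := by
    intro m hm e hmy
    have hk : m⁻¹ * n ∈ normalizer (cP P a : Set G) := mul_mem (inv_mem hm) hn
    have hkc : m⁻¹ * n * c * (m⁻¹ * n)⁻¹ = c := by
      rw [show m⁻¹ * n * c * (m⁻¹ * n)⁻¹ = m⁻¹ * (n * c * n⁻¹) * m by group, e]; group
    have := (h.fix_norm hA.mem hA.notMem hv hv' hk hkc (Frame.conj_mem' hm hyA)).2 hmy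
    rwa [show (m⁻¹ * n)⁻¹ * (m⁻¹ * y * m) * (m⁻¹ * n) = n⁻¹ * y * n by group] at this
  rcases hA.orbit h hn with e | e | e
  · exact same 1 (one_mem _) (by rw [e]; group) (by simpa using hyZ)
  · exact same n₀ hA.norm (by rw [e, hA.map_c]) hy0
  · refine same (v * n₀) (mul_mem (h.le_normalizer_cP hA.mem hv) hA.norm) ?_ ?_
    · rw [e, show v * n₀ * c * (v * n₀)⁻¹ = v * (n₀ * c * n₀⁻¹) * v⁻¹ by group, hA.map_c,
        ((h.act_v hA.mem hA.notMem hv hv' (h.self_mem_cP hA.mem)).resolve_left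
          fun k => hA.notMem k.1).2]
    · rw [show (v * n₀)⁻¹ * y * (v * n₀) = n₀⁻¹ * (v⁻¹ * y * v) * n₀ by group,
        h.central y hyZ v⁻¹ (inv_mem hv), inv_mul_cancel_right]
      exact hy0

theorem compY_inv {n y : G} (hn : n ∈ normalizer (cP P a : Set G)) (hy : y ∈ compY Z n₀) :
    n * y * n⁻¹ ∈ compY Z n₀ := by
  have h1 := hA.compY_all h (inv_mem hn) hy
  have h2 := hA.compY_all h (mul_mem (inv_mem hn) hA.norm) hy
  rw [inv_inv] at h1
  refine mem_compY.2 ⟨h1, ?_⟩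
  rwa [show n₀⁻¹ * (n * y * n⁻¹) * n₀ = (n⁻¹ * n₀)⁻¹ * y * (n⁻¹ * n₀) by group]

theorem compY_or {z : G} (hz : z ∈ Z) : z ∈ compY Z n₀ ∨ c * z ∈ compY Z n₀ := by
  by_cases hz0 : n₀⁻¹ * z * n₀ ∈ Z
  · exact Or.inl (mem_compY.2 ⟨hz, hz0⟩)
  refine Or.inr (mem_compY.2 ⟨mul_mem h.c_mem hz, ?_⟩)
  rw [show n₀⁻¹ * (c * z) * n₀ = (n₀⁻¹ * c * n₀) * (n₀⁻¹ * z * n₀) by group]
  refine h.mul_mem_Z hA.mem hA.notMem (Frame.conj_mem' hA.norm (h.c_mem_cP hA.mem hA.notMem))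
    (Frame.conj_mem' hA.norm (h.Z_le_cP hA.mem hz)) (fun k => hA.compY_c h ?_) hz0
  exact mem_compY.2 ⟨h.c_mem, k⟩

/-- On `Y` the group `N(A)` acts as `N(P)` does. -/
theorem exists_act {n : G} (hn : n ∈ normalizer (cP P a : Set G)) :
    ∃ k ∈ normalizer ((P : Subgroup G) : Set G), ∀ y ∈ compY Z n₀, n * y * n⁻¹ = k * y * k⁻¹ := by
  obtain ⟨v, hv, hv'⟩ := h.exists_notMem hA.mem hA.notMem
  set A := normalizer (cP P a : Set G) with hAd
  have hvN : v ∈ A := h.le_normalizer_cP hA.mem hv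
  set w₀ := n₀ * v * n₀⁻¹ with hw₀
  have hw₀N : w₀ ∈ A := mul_mem (mul_mem hA.norm hvN) (inv_mem hA.norm)
  have hva : v * a * v⁻¹ = c * a :=
    ((h.act_v hA.mem hA.notMem hv hv' (h.self_mem_cP hA.mem)).resolve_left fun k => hA.notMem k.1).2
  have hvy : ∀ z ∈ Z, v * z * v⁻¹ = z := fun z hz => by rw [h.central z hz v hv, mul_inv_cancel_right]
  have hw₀y : ∀ y ∈ compY Z n₀, w₀ * y * w₀⁻¹ = y := fun y hy => by
    rw [hw₀, show n₀ * v * n₀⁻¹ * y * (n₀ * v * n₀⁻¹)⁻¹ = n₀ * (v * (n₀⁻¹ * y * n₀) * v⁻¹) * n₀⁻¹ by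
      group, hvy _ (mem_compY.1 hy).2]
    group
  have hca : a * c = c * a := h.cz hA.mem
  have hw₀c : w₀ * c * w₀⁻¹ = c * a := by
    obtain ⟨-, -, e⟩ := (h.conj_c hA.mem hA.notMem hv hv' hA.norm).resolve_left fun e =>
      hA.notMem (by rw [← hA.map_c, e.1]; exact h.c_mem)
    rw [hw₀, e, hA.map_c, hca]
  -- split off an element centralizing `Y`
  have split : ∀ w ∈ A, w * c * w⁻¹ = n * c * n⁻¹ → (∀ y ∈ compY Z n₀, w * y * w⁻¹ = y) →
      ∃ k ∈ normalizer ((P : Subgroup G) : Set G), ∀ y ∈ compY Z n₀, n * y * n⁻¹ = k * y * k⁻¹ := by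
    intro w hw e hwy
    have hm : w⁻¹ * n ∈ A := mul_mem (inv_mem hw) hn
    have hmc : w⁻¹ * n * c * (w⁻¹ * n)⁻¹ = c := by
      rw [show w⁻¹ * n * c * (w⁻¹ * n)⁻¹ = w⁻¹ * (n * c * n⁻¹) * w by group, ← e]; group
    obtain ⟨k, hk, hka⟩ := h.exists_normalizer_P hA.mem hA.notMem hv hv' hm hmc
    refine ⟨k, hk, fun y hy => ?_⟩
    have hy' := hA.compY_inv h hm hy
    calc n * y * n⁻¹ = w * (w⁻¹ * n * y * (w⁻¹ * n)⁻¹) * w⁻¹ := by group
      _ = w⁻¹ * n * y * (w⁻¹ * n)⁻¹ := hwy _ hy'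
      _ = k * y * k⁻¹ := (hka y (h.Z_le_cP hA.mem (hA.compY_le h hy))).symm
  rcases hA.orbit h hn with e | e | e
  · exact split 1 (one_mem _) (by rw [e]; group) (fun y _ => by group)
  · refine split (v * w₀) (mul_mem hvN hw₀N) ?_ fun y hy => ?_
    · rw [e, show v * w₀ * c * (v * w₀)⁻¹ = v * (w₀ * c * w₀⁻¹) * v⁻¹ by group, hw₀c,
        show v * (c * a) * v⁻¹ = (v * c * v⁻¹) * (v * a * v⁻¹) by group, hvy c h.c_mem, hva,
        ← mul_assoc, h.c_sq, one_mul]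
    · rw [show v * w₀ * y * (v * w₀)⁻¹ = v * (w₀ * y * w₀⁻¹) * v⁻¹ by group, hw₀y y hy,
        hvy y (hA.compY_le h hy)]
  · exact split w₀ hw₀N (by rw [e, hw₀c]) hw₀y

end Active

end CfsgLib.QuasiFour.Simple
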