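import Cfsg.Agent.Lib.Fusion.AlperinGoldschmidt
import Cfsg.Agent.Lib.Invol.Basic
import Mathlib.Tactic.Group

/-!
# Sylow 2-subgroups with centre of index four: the frame

`Frame P Z c`: `Z` is the centre of `P`, of index four, and `c` is the commutator of `P`.
-/

set_option autoImplicit false
set_option linter.unusedSectionVars false
set_option linter.style.haveILetI false

open Subgroup

namespace CfsgLib.QuasiFour.Simple

open CfsgLib.Fusion CfsgLib.Fusion.Goldschmidt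

universe u

variable {G : Type u} [Group G]

/-- Centre of index four, with the commutator. -/
structure Frame (P : Sylow 2 G) (Z : Subgroup G) (c : G) : Prop where
  le : Z ≤ (P : Subgroup G)
  central : ∀ z ∈ Z, ∀ x ∈ (P : Subgroup G), x * z = z * x
  mem_Z : ∀ x ∈ (P : Subgroup G), (∀ y ∈ (P : Subgroup G), y * x = x * y) → x ∈ Z
  cos : ∀ u ∈ (P : Subgroup G), ∀ v ∈ (P : Subgroup G), u ∉ Z → v ∉ Z → u * v ∉ Z →
    ∀ x ∈ (P : Subgroup G), x ∈ Z ∨ x * u ∈ Z ∨ x * v ∈ Z ∨ x * (u * v) ∈ Z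
  pair : ∃ u ∈ (P : Subgroup G), ∃ v ∈ (P : Subgroup G), u ∉ Z ∧ v ∉ Z ∧ u * v ∉ Z
  sq : ∀ x ∈ (P : Subgroup G), x * x ∈ Z
  c_mem : c ∈ Z
  c_ne : c ≠ 1
  c_sq : c * c = 1
  comm : ∀ v ∈ (P : Subgroup G), ∀ u ∈ (P : Subgroup G), v * u * v⁻¹ = u ∨ v * u * v⁻¹ = c * u

theorem exists_frame [Finite G] (P : Sylow 2 G) (hna : ¬ IsMulCommutative (P : Subgroup G))
    (hZ : (Subgroup.center (P : Subgroup G)).index = 4) :
    ∃ (Z : Subgroup G) (c : G), Frame P Z c := by
  classical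
  set S : Subgroup G := (P : Subgroup G) with hS
  set C := Subgroup.center S with hC
  let Z : Subgroup G := C.map S.subtype
  have mZ : ∀ x (hx : x ∈ S), x ∈ Z ↔ (⟨x, hx⟩ : S) ∈ C := fun x hx =>
    ⟨fun ⟨y, hy, e⟩ => by
      have e' : y = ⟨x, hx⟩ := Subtype.ext e
      rwa [e'] at hy, fun h => ⟨_, h, rfl⟩⟩
  have hle : Z ≤ S := map_subtype_le _
  have hcard : Nat.card (↥S ⧸ C) = 4 := by rw [← Subgroup.index_eq_card]; exact hZ
  have hcent : ∀ z ∈ Z, ∀ x ∈ S, x * z = z * x := fun z hz x hx =>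
    congrArg Subtype.val (Subgroup.mem_center_iff.1 ((mZ z (hle hz)).1 hz) ⟨x, hx⟩)
  have hmemZ : ∀ x ∈ S, (∀ y ∈ S, y * x = x * y) → x ∈ Z := fun x hx h =>
    (mZ x hx).2 (Subgroup.mem_center_iff.2 fun y => Subtype.ext (h y y.2))
  -- the quotient has exponent two
  have hexp : ∀ q : ↥S ⧸ C, q * q = 1 := by
    intro q
    have hd : orderOf q ∣ 2 ^ 2 := by
      have := orderOf_dvd_natCard q
      rwa [hcard] at this
    obtain ⟨i, hi, he⟩ := (Nat.dvd_prime_pow Nat.prime_two).1 hd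
    rcases Nat.lt_or_ge i 2 with h2 | h2
    · have : q ^ 2 = 1 := orderOf_dvd_iff_pow_eq_one.1 (by
        rw [he]; exact (pow_dvd_pow 2 (by omega : i ≤ 1)).trans (by norm_num))
      rwa [pow_two] at this
    · exfalso
      have hi2 : i = 2 := le_antisymm hi h2
      have htop : Subgroup.zpowers q = ⊤ := by
        refine Subgroup.eq_top_of_card_eq _ ?_
        rw [Nat.card_zpowers, he, hi2, hcard]; norm_num
      obtain ⟨g, rfl⟩ := QuotientGroup.mk_surjective q
      have hall : ∀ y : S, ∃ (k : ℤ) (z : S), z ∈ C ∧ y = g ^ k * z := by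
        intro y
        obtain ⟨k, hk⟩ := mem_zpowers_iff.1 (htop ▸ mem_top (y : ↥S ⧸ C) :
          (y : ↥S ⧸ C) ∈ Subgroup.zpowers (g : ↥S ⧸ C))
        refine ⟨k, (g ^ k)⁻¹ * y, ?_, (mul_inv_cancel_left _ _).symm⟩
        rw [← QuotientGroup.eq, ← hk, QuotientGroup.mk_zpow]
      refine hna ⟨⟨fun x y => ?_⟩⟩
      obtain ⟨i, z, hz, rfl⟩ := hall x
      obtain ⟨j, w, hw, rfl⟩ := hall y
      have c1 : Commute (g ^ i) (g ^ j) := ((Commute.refl g).zpow_left i).zpow_right j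
      have c2 : ∀ a : S, Commute a z := fun a => Subgroup.mem_center_iff.1 hz a
      have c3 : ∀ a : S, Commute a w := fun a => Subgroup.mem_center_iff.1 hw a
      exact ((c1.mul_right (c3 _)).mul_left ((c2 _).symm)).eq
  have hsq : ∀ x ∈ S, x * x ∈ Z := fun x hx => (mZ _ (mul_mem hx hx)).2 <| by
    rw [← QuotientGroup.eq_one_iff]
    exact hexp ((⟨x, hx⟩ : S) : ↥S ⧸ C)
  have hcos : ∀ u ∈ S, ∀ v ∈ S, u ∉ Z → v ∉ Z → u * v ∉ Z →
      ∀ x ∈ S, x ∈ Z ∨ x * u ∈ Z ∨ x * v ∈ Z ∨ x * (u * v) ∈ Z := by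
    intro u hu v hv hu' hv' huv x hx
    set q : ↥S ⧸ C := ((⟨u, hu⟩ : S) : ↥S ⧸ C) with hq
    set r : ↥S ⧸ C := ((⟨v, hv⟩ : S) : ↥S ⧸ C) with hr
    set s : ↥S ⧸ C := ((⟨x, hx⟩ : S) : ↥S ⧸ C) with hs
    have q1 : q ≠ 1 := fun e => hu' ((mZ u hu).2 ((QuotientGroup.eq_one_iff _).1 e))
    have r1 : r ≠ 1 := fun e => hv' ((mZ v hv).2 ((QuotientGroup.eq_one_iff _).1 e))
    have qr1 : q * r ≠ 1 := fun e => huv ((mZ _ (mul_mem hu hv)).2 ((QuotientGroup.eq_one_iff
      (⟨u * v, mul_mem hu hv⟩ : S)).1 e))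
    have qr : q ≠ r := fun e => qr1 (by rw [e, hexp])
    letI := Fintype.ofFinite (↥S ⧸ C)
    have huniv : ({1, q, r, q * r} : Finset (↥S ⧸ C)) = Finset.univ := by
      refine Finset.eq_univ_of_card _ ?_
      rw [← Nat.card_eq_fintype_card, hcard]
      rw [Finset.card_insert_of_notMem, Finset.card_insert_of_notMem, Finset.card_insert_of_notMem,
        Finset.card_singleton]
      · simp [q1]
      · simp [qr, r1]
      · simp [q1.symm, r1.symm, qr1.symm]
    have hm := Finset.mem_univ s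
    rw [← huniv] at hm
    simp only [Finset.mem_insert, Finset.mem_singleton] at hm
    rcases hm with e | e | e | e
    · exact Or.inl ((mZ x hx).2 ((QuotientGroup.eq_one_iff _).1 e))
    · refine Or.inr (Or.inl ((mZ _ (mul_mem hx hu)).2 ((QuotientGroup.eq_one_iff
        (⟨x * u, mul_mem hx hu⟩ : S)).1 ?_)))
      show s * q = 1
      rw [e, hexp]
    · refine Or.inr (Or.inr (Or.inl ((mZ _ (mul_mem hx hv)).2 ((QuotientGroup.eq_one_iff
        (⟨x * v, mul_mem hx hv⟩ : S)).1 ?_))))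
      show s * r = 1
      rw [e, hexp]
    · refine Or.inr (Or.inr (Or.inr ((mZ _ (mul_mem hx (mul_mem hu hv))).2 ((QuotientGroup.eq_one_iff
        (⟨x * (u * v), mul_mem hx (mul_mem hu hv)⟩ : S)).1 ?_))))
      show s * (q * r) = 1
      rw [e, hexp]
  have hkill : ∀ u ∈ S, ∀ v ∈ S, u * v = v * u → u ∉ Z → v ∉ Z → u * v ∈ Z := by
    intro u hu v hv he hu' hv'
    by_contra huv
    refine hu' (hmemZ u hu fun y hy => ?_)
    have key : ∀ w ∈ S, u * w = w * u → y * w ∈ Z → y * u = u * y := by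
      intro w hw hw' hz
      have cu : Commute u (y * w) := hcent _ hz u hu
      have cw : Commute u w⁻¹ := (Commute.inv_right hw')
      have := cu.mul_right cw
      rw [mul_inv_cancel_right] at this
      exact this.symm.eq
    rcases hcos u hu v hv hu' hv' huv y hy with h | h | h | h
    · exact (hcent y h u hu).symm
    · exact key u hu rfl h
    · exact key v hv he h
    · exact key (u * v) (mul_mem hu hv) (by rw [mul_assoc u v u, he]) h
  have hpair : ∃ u ∈ S, ∃ v ∈ S, u ∉ Z ∧ v ∉ Z ∧ u * v ∉ Z := by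
    have h1 : ∃ u ∈ S, u ∉ Z := by
      by_contra h
      push Not at h
      exact hna ⟨⟨fun x y => Subtype.ext (hcent _ (h y y.2) x x.2)⟩⟩
    obtain ⟨u, hu, hu'⟩ := h1
    have h2 : ∃ v ∈ S, v ∉ Z ∧ u * v ∉ Z := by
      by_contra h
      push Not at h
      refine hu' (hmemZ u hu fun y hy => ?_)
      by_cases hy' : y ∈ Z
      · exact (hcent y hy' u hu).symm
      · have cu : Commute u (u * y) := hcent _ (h y hy hy') u hu
        have := (Commute.refl u).inv_right.mul_right cu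
        rw [inv_mul_cancel_left] at this
        exact this.symm.eq
    obtain ⟨v, hv, hv', huv⟩ := h2
    exact ⟨u, hu, v, hv, hu', hv', huv⟩
  obtain ⟨u, hu, v, hv, hu', hv', huv⟩ := hpair
  -- the commutator
  set c := v * u * v⁻¹ * u⁻¹ with hc
  have hcomm_mem : ∀ a ∈ S, ∀ b ∈ S, a * b * a⁻¹ * b⁻¹ ∈ Z := by
    intro a ha b hb
    refine (mZ _ (mul_mem (mul_mem (mul_mem ha hb) (inv_mem ha)) (inv_mem hb))).2 ?_
    rw [← QuotientGroup.eq_one_iff]
    set q : ↥S ⧸ C := ((⟨a, ha⟩ : S) : ↥S ⧸ C) with hq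
    set r : ↥S ⧸ C := ((⟨b, hb⟩ : S) : ↥S ⧸ C) with hr
    show q * r * q⁻¹ * r⁻¹ = 1
    rw [inv_eq_of_mul_eq_one_right (hexp q), inv_eq_of_mul_eq_one_right (hexp r)]
    calc q * r * q * r = (q * r) * (q * r) := by rw [mul_assoc (q * r)]
      _ = 1 := hexp _
  have hcm : c ∈ Z := hcomm_mem v hv u hu
  have hcc : ∀ x ∈ S, x * c = c * x := fun x hx => hcent c hcm x hx
  have hvu : v * u * v⁻¹ = c * u := by rw [hc, inv_mul_cancel_right]
  have hc1 : c ≠ 1 := by
    intro e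
    refine huv (hkill u hu v hv ?_ hu' hv')
    rw [e, one_mul] at hvu
    calc u * v = v * u * v⁻¹ * v := by rw [hvu]
      _ = v * u := by rw [inv_mul_cancel_right]
  have hc2 : c * c = 1 := by
    have e : v * (v * u * v⁻¹) * v⁻¹ = u := by
      have := hcent _ (hsq v hv) u hu
      calc v * (v * u * v⁻¹) * v⁻¹ = (v * v) * u * (v * v)⁻¹ := by group
        _ = u := by rw [← this, mul_inv_cancel_right]
    rw [hvu] at e
    have e2 : v * (c * u) * v⁻¹ = c * (v * u * v⁻¹) := by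
      rw [← mul_assoc v, hcc v hv]; simp [mul_assoc]
    rw [e2, hvu, ← mul_assoc] at e
    exact mul_eq_right.1 e
  have huv' : u * v * u⁻¹ = c * v := by
    have h1 : v * u = c * (u * v) := by
      calc v * u = v * u * v⁻¹ * v := (inv_mul_cancel_right _ _).symm
        _ = c * (u * v) := by rw [hvu, mul_assoc]
    have h2 : u * v = c * (v * u) := by rw [h1, ← mul_assoc, hc2, one_mul]
    rw [h2, mul_assoc c, mul_inv_cancel_right]
  -- the dichotomy
  let L : Subgroup G :=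
    { carrier := {a | a ∈ S ∧ ∀ b ∈ ({u, v} : Set G), a * b * a⁻¹ = b ∨ a * b * a⁻¹ = c * b}
      one_mem' := ⟨one_mem _, fun b _ => Or.inl (by simp)⟩
      mul_mem' := fun {a a'} ha ha' => ⟨mul_mem ha.1 ha'.1, fun b hb => by
        have e : a * a' * b * (a * a')⁻¹ = a * (a' * b * a'⁻¹) * a⁻¹ := by group
        rw [e]
        rcases ha'.2 b hb with h | h <;> rw [h]
        · exact ha.2 b hb
        · rw [← mul_assoc a, hcc a ha.1, mul_assoc c a, mul_assoc c]
          rcases ha.2 b hb with h' | h' <;> rw [h']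
          · exact Or.inr rfl
          · exact Or.inl (by rw [← mul_assoc, hc2, one_mul])⟩
      inv_mem' := fun {a} ha => ⟨inv_mem ha.1, fun b hb => by
        rcases ha.2 b hb with h | h
        · exact Or.inl (by calc a⁻¹ * b * a⁻¹⁻¹ = a⁻¹ * (a * b * a⁻¹) * a⁻¹⁻¹ := by rw [h]
                             _ = b := by group)
        · refine Or.inr ?_
          calc a⁻¹ * b * a⁻¹⁻¹ = a⁻¹ * (c * (c * b)) * a := by rw [← mul_assoc c, hc2, one_mul, inv_inv]
            _ = a⁻¹ * c * (a * b * a⁻¹) * a := by rw [h]; simp [mul_assoc]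
            _ = c * (a⁻¹ * (a * b * a⁻¹) * a) := by rw [hcc a⁻¹ (inv_mem ha.1)]; simp [mul_assoc]
            _ = c * b := by group⟩ }
  have gen : ∀ K : Subgroup G, Z ≤ K → u ∈ K → v ∈ K → S ≤ K := by
    intro K hz hu1 hv1 x hx
    have key : ∀ w ∈ K, x * w ∈ Z → x ∈ K := fun w hw h => by
      simpa using mul_mem (hz h) (inv_mem hw)
    rcases hcos u hu v hv hu' hv' huv x hx with h | h | h | h
    · exact hz h
    · exact key u hu1 h
    · exact key v hv1 h
    · exact key (u * v) (mul_mem hu1 hv1) h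
  have hL : S ≤ L := gen L
    (fun z hz => ⟨hle hz, fun b hb => Or.inl (by
      have hbS : b ∈ S := by rcases hb with rfl | rfl <;> assumption
      rw [← hcent z hz b hbS, mul_inv_cancel_right])⟩)
    ⟨hu, fun b hb => by
      rcases hb with rfl | rfl
      · exact Or.inl (mul_inv_cancel_right _ _)
      · exact Or.inr huv'⟩
    ⟨hv, fun b hb => by
      rcases hb with rfl | rfl
      · exact Or.inr hvu
      · exact Or.inl (mul_inv_cancel_right _ _)⟩
  have hcomm : ∀ a ∈ S, ∀ b ∈ S, a * b * a⁻¹ = b ∨ a * b * a⁻¹ = c * b := by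
    intro a ha
    let K : Subgroup G :=
      { carrier := {b | b ∈ S ∧ (a * b * a⁻¹ = b ∨ a * b * a⁻¹ = c * b)}
        one_mem' := ⟨one_mem _, Or.inl (by simp)⟩
        mul_mem' := fun {b b'} hb hb' => ⟨mul_mem hb.1 hb'.1, by
          have e : a * (b * b') * a⁻¹ = (a * b * a⁻¹) * (a * b' * a⁻¹) := by group
          rw [e]
          rcases hb.2 with h | h <;> rcases hb'.2 with h' | h' <;> rw [h, h']
          · exact Or.inl rfl
          · exact Or.inr (by rw [← mul_assoc, hcc b hb.1, mul_assoc])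
          · exact Or.inr (mul_assoc _ _ _)
          · exact Or.inl (by
              rw [mul_assoc c, ← mul_assoc b, hcc b hb.1, mul_assoc c b, ← mul_assoc, hc2, one_mul])⟩
        inv_mem' := fun {b} hb => ⟨inv_mem hb.1, by
          have e : a * b⁻¹ * a⁻¹ = (a * b * a⁻¹)⁻¹ := by group
          rw [e]
          rcases hb.2 with h | h <;> rw [h]
          · exact Or.inl rfl
          · exact Or.inr (by rw [mul_inv_rev, inv_eq_of_mul_eq_one_right hc2, hcc _ (inv_mem hb.1)])⟩ }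
    intro b hb
    exact (gen K (fun z hz => ⟨hle hz, Or.inl (by rw [hcent z hz a ha, mul_inv_cancel_right])⟩)
      ⟨hu, (hL ha).2 u (Or.inl rfl)⟩ ⟨hv, (hL ha).2 v (Or.inr rfl)⟩ hb).2
  exact ⟨Z, c, hle, hcent, hmemZ, hcos, ⟨u, hu, v, hv, hu', hv', huv⟩, hsq, hcm, hc1, hc2, hcomm⟩

/-- The centralizer of `u` in `P`. -/
def cP (P : Sylow 2 G) (u : G) : Subgroup G := (P : Subgroup G) ⊓ centralizer ({u} : Set G)

theorem mem_cP {P : Sylow 2 G} {u x : G} :
    x ∈ cP P u ↔ x ∈ (P : Subgroup G) ∧ x * u = u * x :=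
  and_congr_right fun _ => mem_centralizer_singleton_iff

theorem cP_le {P : Sylow 2 G} {u : G} : cP P u ≤ (P : Subgroup G) := inf_le_left

namespace Frame

variable {P : Sylow 2 G} {Z : Subgroup G} {c : G} (h : Frame P Z c)
include h

theorem c_memP : c ∈ (P : Subgroup G) := h.le h.c_mem

theorem cz {x : G} (hx : x ∈ (P : Subgroup G)) : x * c = c * x := h.central c h.c_mem x hx

theorem mem_of_mul {x y : G} (hx : x ∈ (P : Subgroup G)) (hz : x * y ∈ Z) : y ∈ (P : Subgroup G) := by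
  simpa using mul_mem (inv_mem hx) (h.le hz)

theorem mul_mem_Z_comm {x y : G} (hx : x ∈ (P : Subgroup G)) (hz : x * y ∈ Z) : y * x ∈ Z := by
  have e := h.central _ hz x hx
  have e2 : y * x = x * y := by
    refine mul_left_cancel (a := x) ?_
    rw [e, mul_assoc]
  rwa [e2]

theorem comm_iff {u x : G} (hu : u ∈ (P : Subgroup G)) (hu' : u ∉ Z) (hx : x ∈ (P : Subgroup G)) :
    x * u = u * x ↔ x ∈ Z ∨ x * u ∈ Z := by
  constructor
  · intro he
    by_contra hn
    push Not at hn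
    have huv : u * x ∉ Z := fun hz => hn.2 (h.mul_mem_Z_comm hu hz)
    refine hu' (h.mem_Z u hu fun y hy => ?_)
    have key : ∀ w ∈ (P : Subgroup G), u * w = w * u → y * w ∈ Z → y * u = u * y := by
      intro w _ hw' hz
      have cu : Commute u (y * w) := h.central _ hz u hu
      have cw : Commute u w⁻¹ := Commute.inv_right hw'
      have := cu.mul_right cw
      rw [mul_inv_cancel_right] at this
      exact this.symm.eq
    rcases h.cos u hu x hx hu' hn.1 huv y hy with k | k | k | k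
    · exact (h.central y k u hu).symm
    · exact key u hu rfl k
    · exact key x hx he.symm k
    · exact key (u * x) (mul_mem hu hx) (by rw [mul_assoc u x u, he]) k
  · rintro (hz | hz)
    · exact (h.central x hz u hu).symm
    · have cu : Commute u (x * u) := h.central _ hz u hu
      have := cu.mul_right (Commute.refl u).inv_right
      rw [mul_inv_cancel_right] at this
      exact this.symm.eq

theorem cP_iff {u x : G} (hu : u ∈ (P : Subgroup G)) (hu' : u ∉ Z) :
    x ∈ cP P u ↔ x ∈ (P : Subgroup G) ∧ (x ∈ Z ∨ x * u ∈ Z) := by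
  rw [mem_cP]
  exact and_congr_right fun hx => h.comm_iff hu hu' hx

theorem Z_le_cP {u : G} (hu : u ∈ (P : Subgroup G)) : Z ≤ cP P u := fun z hz =>
  mem_cP.2 ⟨h.le hz, (h.central z hz u hu).symm⟩

theorem self_mem_cP {u : G} (hu : u ∈ (P : Subgroup G)) : u ∈ cP P u := mem_cP.2 ⟨hu, rfl⟩

/-- The product of two elements of `C_P(u)` outside `Z` is central. -/
theorem mul_mem_Z {u x y : G} (hu : u ∈ (P : Subgroup G)) (hu' : u ∉ Z) (hx : x ∈ cP P u)
    (hy : y ∈ cP P u) (hx' : x ∉ Z) (hy' : y ∉ Z) : x * y ∈ Z := by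
  have a := (((h.cP_iff hu hu').1 hx).2).resolve_left hx'
  have b := (((h.cP_iff hu hu').1 hy).2).resolve_left hy'
  have e : x * y = (x * u) * (y * u) * (u * u)⁻¹ := by
    have cuy : u * y = y * u := (mem_cP.1 hy).2.symm
    have hq : y * (u * u) = u * (y * u) :=
      (mul_assoc y u u).symm.trans ((congrArg (· * u) cuy.symm).trans (mul_assoc u y u))
    calc x * y = x * y * (u * u) * (u * u)⁻¹ := (mul_inv_cancel_right _ _).symm
      _ = x * (y * (u * u)) * (u * u)⁻¹ := by rw [mul_assoc x y]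
      _ = (x * u) * (y * u) * (u * u)⁻¹ := by rw [hq, ← mul_assoc x u]
  rw [e]
  exact mul_mem (mul_mem a b) (inv_mem (h.sq u hu))

theorem cP_comm {u x y : G} (hu : u ∈ (P : Subgroup G)) (hu' : u ∉ Z) (hx : x ∈ cP P u)
    (hy : y ∈ cP P u) : x * y = y * x := by
  by_cases hx' : x ∈ Z
  · exact (h.central x hx' y (cP_le hy)).symm
  by_cases hy' : y ∈ Z
  · exact h.central y hy' x (cP_le hx)
  exact ((h.comm_iff (cP_le hy) hy' (cP_le hx)).2 (Or.inr (h.mul_mem_Z hu hu' hx hy hx' hy')))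

theorem cP_eq {u w : G} (hu : u ∈ (P : Subgroup G)) (hu' : u ∉ Z) (hw : w ∈ cP P u) (hw' : w ∉ Z) :
    cP P w = cP P u := by
  have hwu : w * u ∈ Z := (((h.cP_iff hu hu').1 hw).2).resolve_left hw'
  ext x
  constructor
  · intro hx
    by_cases hx' : x ∈ Z
    · exact h.Z_le_cP hu hx'
    refine (h.cP_iff hu hu').2 ⟨cP_le hx, Or.inr ?_⟩
    have hxw : x * w ∈ Z := (((h.cP_iff (cP_le hw) hw').1 hx).2).resolve_left hx'
    have e : x * u = (x * w) * (w * w)⁻¹ * (w * u) := by group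
    rw [e]
    exact mul_mem (mul_mem hxw (inv_mem (h.sq w (cP_le hw)))) hwu
  · intro hx
    exact mem_cP.2 ⟨cP_le hx, h.cP_comm hu hu' hx hw⟩

theorem exists_notMem {u : G} (hu : u ∈ (P : Subgroup G)) (hu' : u ∉ Z) :
    ∃ v ∈ (P : Subgroup G), v ∉ cP P u := by
  by_contra hn
  push Not at hn
  exact hu' (h.mem_Z u hu fun y hy => (mem_cP.1 (hn y hy)).2)

/-- Conjugation by `v` outside `C_P(u)` moves exactly the elements outside `Z`, by `c`. -/
theorem act_v {u v x : G} (hu : u ∈ (P : Subgroup G)) (hu' : u ∉ Z) (hv : v ∈ (P : Subgroup G))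
    (hv' : v ∉ cP P u) (hx : x ∈ cP P u) :
    (x ∈ Z ∧ v * x * v⁻¹ = x) ∨ (x ∉ Z ∧ v * x * v⁻¹ = c * x) := by
  by_cases hx' : x ∈ Z
  · exact Or.inl ⟨hx', by rw [h.central x hx' v hv, mul_inv_cancel_right]⟩
  refine Or.inr ⟨hx', (h.comm v hv x (cP_le hx)).resolve_left fun e => hv' ?_⟩
  have e' : v * x = x * v := mul_inv_eq_iff_eq_mul.1 e
  rw [← h.cP_eq hu hu' hx hx']
  exact mem_cP.2 ⟨hv, e'⟩

theorem fixed_iff {u v x : G} (hu : u ∈ (P : Subgroup G)) (hu' : u ∉ Z) (hv : v ∈ (P : Subgroup G))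
    (hv' : v ∉ cP P u) (hx : x ∈ cP P u) : v * x * v⁻¹ = x ↔ x ∈ Z := by
  rcases h.act_v hu hu' hv hv' hx with ⟨a, b⟩ | ⟨a, b⟩
  · exact iff_of_true b a
  · refine iff_of_false (fun e => h.c_ne ?_) a
    rw [b] at e
    exact mul_eq_right.1 e

theorem le_normalizer_cP [Finite G] {u : G} (hu : u ∈ (P : Subgroup G)) :
    (P : Subgroup G) ≤ normalizer (cP P u : Set G) := by
  intro p hp
  refine conjBy_eq_iff.1 (conjBy_eq_of_le (conjBy_le_iff.2 fun x hx => ?_))
  obtain ⟨hxP, hxu⟩ := mem_cP.1 hx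
  refine mem_cP.2 ⟨mul_mem (mul_mem hp hxP) (inv_mem hp), ?_⟩
  rcases h.comm p hp x hxP with e | e <;> rw [e]
  · exact hxu
  · rw [mul_assoc, hxu, ← mul_assoc, ← h.cz hu, mul_assoc]

/-- `C_P(u)` has index two: two elements outside differ by an element inside. -/
theorem inv_mul_mem [Finite G] {u p v : G} (hu : u ∈ (P : Subgroup G)) (hu' : u ∉ Z) (hp : p ∈ (P : Subgroup G))
    (hv : v ∈ (P : Subgroup G)) (hp' : p ∉ cP P u) (hv' : v ∉ cP P u) : v⁻¹ * p ∈ cP P u := by
  have hpu : u * v ∉ Z := fun hz => hv' ((h.cP_iff hu hu').2 ⟨hv, Or.inr (h.mul_mem_Z_comm hu hz)⟩)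
  have hvZ : v ∉ Z := fun hz => hv' (h.Z_le_cP hu hz)
  have key : p * v ∈ cP P u → v⁻¹ * p ∈ cP P u := fun k => by
    have hpv : v⁻¹ * p = (v * v)⁻¹ * (v * (p * v) * v⁻¹) := by group
    rw [hpv]
    exact mul_mem (inv_mem (h.Z_le_cP hu (h.sq v hv)))
      ((mem_normalizer_iff.1 (h.le_normalizer_cP hu hv) _).1 k)
  rcases h.cos u hu v hv hu' hvZ hpu p hp with k | k | k | k
  · exact absurd (h.Z_le_cP hu k) hp'
  · exact absurd ((h.cP_iff hu hu').2 ⟨hp, Or.inr k⟩) hp'
  · exact key (h.Z_le_cP hu k)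
  · refine key ?_
    have e : p * v = p * (u * v) * (v⁻¹ * u⁻¹ * v) := by group
    rw [e]
    refine mul_mem (h.Z_le_cP hu k) ?_
    have := (mem_normalizer_iff.1 (h.le_normalizer_cP hu (inv_mem hv)) u⁻¹).1
      (inv_mem (h.self_mem_cP hu))
    rwa [inv_inv] at this

end Frame

end CfsgLib.QuasiFour.Simple
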