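import Cfsg.Agent.Lib.QuasiFour.SimpleFrame
import Cfsg.Agent.Lib.ProdFusion.Ctx

/-!
# Sylow 2-subgroups with centre of index four: the normalizer of an abelian maximal subgroup

For `A = C_P(u)` the automizer of `A` has a Sylow 2-subgroup of order two, generated by a transvection with
centre `c`.  Hence `c` is either fixed by `N(A)` or has exactly three conjugates `c, a, ca` there, and in the
latter case `Z ∩ Z^{n}` is an invariant complement to `⟨c, a⟩`.
-/

set_option autoImplicit false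
set_option linter.unusedSectionVars false
set_option linter.style.haveILetI false

open Subgroup
open scoped Pointwise

namespace CfsgLib.QuasiFour.Simple

open CfsgLib.Fusion CfsgLib.Fusion.Goldschmidt CfsgLib.Invol

universe u

variable {G : Type u} [Group G] [Finite G]

section Image

variable {X : Type u} [Group X] [Finite X] (T : Sylow 2 X) (hT : ∀ x ∈ T, ∀ y ∈ T, x ≠ 1 → y ≠ 1 → x = y)
include hT

theorem eq_of_commute_invol {x y : X} (hx : orderOf x = 2) (hy : orderOf y = 2) (hc : Commute x y) :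
    x = y := by
  haveI : Fact (Nat.Prime 2) := ⟨Nat.prime_two⟩
  have hR : IsPGroup 2 (Subgroup.closure ({x, y} : Set X)) := by
    refine CfsgLib.ProdFusion.isPGroup_closure_of_commute ?_ ?_
    · rintro z (rfl | rfl)
      exacts [invol_mul_self hx, invol_mul_self hy]
    · rintro z (rfl | rfl) w (rfl | rfl)
      exacts [Commute.refl _, hc, hc.symm, Commute.refl _]
  obtain ⟨g, hg⟩ := exists_conj_le_sylow hR T
  have h1 : g * x * g⁻¹ ∈ T := hg x (subset_closure (Or.inl rfl))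
  have h2 : g * y * g⁻¹ ∈ T := hg y (subset_closure (Or.inr rfl))
  have h3 := hT _ h1 _ h2 (invol_ne_one (invol_conj hx g)) (invol_ne_one (invol_conj hy g))
  exact mul_left_cancel (mul_right_cancel h3)

theorem odd_orderOf_mul {x y : X} (hx : orderOf x = 2) (hy : orderOf y = 2) :
    Odd (orderOf (x * y)) := by
  rw [← Nat.not_even_iff_odd]
  intro he
  have hw := orderOf_pow_half he
  have hc := commute_pow_half (invol_conj_mul hx hy) he
  have e := eq_of_commute_invol T hT hx hw hc.symm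
  have hm := Subgroup.npow_mem_zpowers (x * y) (orderOf (x * y) / 2)
  rw [← e] at hm
  exact invol_notMem_zpowers_mul hx hy hm

end Image

theorem swap_pow {g p q : G} (h1 : g * p * g⁻¹ = q) (h2 : g * q * g⁻¹ = p) (i : ℕ) :
    g ^ (2 * i + 1) * p * (g ^ (2 * i + 1))⁻¹ = q := by
  induction i with
  | zero => simpa using h1
  | succ i ih =>
    calc g ^ (2 * (i + 1) + 1) * p * (g ^ (2 * (i + 1) + 1))⁻¹
        = g * (g * (g ^ (2 * i + 1) * p * (g ^ (2 * i + 1))⁻¹) * g⁻¹) * g⁻¹ := by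
          rw [show 2 * (i + 1) + 1 = (2 * i + 1) + 1 + 1 by omega, pow_succ', pow_succ']; group
      _ = q := by rw [ih, h2, h1]

namespace Frame

variable {P : Sylow 2 G} {Z : Subgroup G} {c : G} (h : Frame P Z c)
  {u : G} (hu : u ∈ (P : Subgroup G)) (hu' : u ∉ Z)
include h hu hu'

theorem c_mem_cP : c ∈ cP P u := h.Z_le_cP hu h.c_mem

omit hu' in
theorem mem_normalizer_of_P {p : G} (hp : p ∈ (P : Subgroup G)) : p ∈ normalizer (cP P u : Set G) :=
  h.le_normalizer_cP hu hp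

omit h hu hu' in
theorem conj_mem {n x : G} (hn : n ∈ normalizer (cP P u : Set G)) (hx : x ∈ cP P u) :
    n * x * n⁻¹ ∈ cP P u := (mem_normalizer_iff.1 hn x).1 hx

omit h hu hu' in
theorem conj_mem' {n x : G} (hn : n ∈ normalizer (cP P u : Set G)) (hx : x ∈ cP P u) :
    n⁻¹ * x * n ∈ cP P u := by simpa using conj_mem (inv_mem hn) hx

variable {v : G} (hv : v ∈ (P : Subgroup G)) (hv' : v ∉ cP P u)
include hv hv'

/-- The action of the conjugate `n v n⁻¹`. -/
theorem act_w {n x : G} (hn : n ∈ normalizer (cP P u : Set G)) (hx : x ∈ cP P u) :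
    (n⁻¹ * x * n ∈ Z ∧ n * v * n⁻¹ * x * (n * v * n⁻¹)⁻¹ = x) ∨
      (n⁻¹ * x * n ∉ Z ∧ n * v * n⁻¹ * x * (n * v * n⁻¹)⁻¹ = n * c * n⁻¹ * x) := by
  have e : n * v * n⁻¹ * x * (n * v * n⁻¹)⁻¹ = n * (v * (n⁻¹ * x * n) * v⁻¹) * n⁻¹ := by group
  rcases h.act_v hu hu' hv hv' (conj_mem' hn hx) with ⟨a, b⟩ | ⟨a, b⟩
  · exact Or.inl ⟨a, by rw [e, b]; group⟩
  · exact Or.inr ⟨a, by rw [e, b]; group⟩

/-- The key fact about the automizer: conjugates of `v` by `N(A)` fixing each other's centre act equally,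
and never mix. -/
theorem conj_c {n : G} (hn : n ∈ normalizer (cP P u : Set G)) :
    (n * c * n⁻¹ = c ∧ ∀ x ∈ cP P u, n * v * n⁻¹ * x * (n * v * n⁻¹)⁻¹ = v * x * v⁻¹) ∨
    (n * c * n⁻¹ ≠ c ∧ n * c * n⁻¹ ∉ Z ∧
      n * v * n⁻¹ * c * (n * v * n⁻¹)⁻¹ = n * c * n⁻¹ * c) := by
  haveI : Fact (Nat.Prime 2) := ⟨Nat.prime_two⟩
  set A := cP P u with hA
  set c' := n * c * n⁻¹ with hc'
  set w := n * v * n⁻¹ with hw
  have hcA : c ∈ A := h.c_mem_cP hu hu'
  have hc'A : c' ∈ A := conj_mem hn hcA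
  have hc'1 : c' ≠ 1 := fun e => h.c_ne (conj_eq_one_iff.1 e)
  have hc'2 : c' * c' = 1 := by
    rw [hc', show n * c * n⁻¹ * (n * c * n⁻¹) = n * (c * c) * n⁻¹ by group, h.c_sq]; group
  have hPN : (P : Subgroup G) ≤ normalizer (A : Set G) := fun p hp => h.mem_normalizer_of_P hu hp
  set N := normalizer (A : Set G) with hN
  have hAN : A ≤ N := le_normalizer
  haveI : (A.subgroupOf N).Normal := normal_in_normalizer
  let f : N →* MulAut (A.subgroupOf N) := MulAut.conjNormal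
  have hf : ∀ (m : N) (x : G) (hx : x ∈ A),
      ((f m ⟨⟨x, hAN hx⟩, mem_subgroupOf.2 hx⟩ : A.subgroupOf N) : N) =
        m * ⟨x, hAN hx⟩ * m⁻¹ := fun m x hx => MulAut.conjNormal_apply m _
  have feq : ∀ m m' : N, f m = f m' ↔ ∀ x ∈ A, (m : G) * x * (m : G)⁻¹ = m' * x * (m' : G)⁻¹ := by
    intro m m'
    constructor
    · intro e x hx
      have := hf m x hx
      rw [e, hf m' x hx] at this
      exact (congrArg Subtype.val this).symm
    · intro e
      ext ⟨⟨x, hxN⟩, hx⟩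
      exact e x (mem_subgroupOf.1 hx)
  -- the image of the Sylow group
  let T : Sylow 2 f.range := (P.subtype hPN).mapSurjective f.rangeRestrict_surjective
  have hT : ∀ x ∈ T, ∀ y ∈ T, x ≠ 1 → y ≠ 1 → x = y := by
    have key : ∀ p : N, (p : G) ∈ (P : Subgroup G) → f p = 1 ∨ f p = f ⟨v, hPN hv⟩ := by
      intro p hp
      by_cases hpA : (p : G) ∈ A
      · refine Or.inl (map_one f ▸ (feq p 1).2 fun x hx => ?_)
        rw [h.cP_comm hu hu' hpA hx, mul_inv_cancel_right]; simp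
      · refine Or.inr ((feq p _).2 fun x hx => ?_)
        have hd := h.inv_mul_mem hu hu' hp hv hpA hv'
        calc (p : G) * x * (p : G)⁻¹ = v * ((v⁻¹ * p) * x * (v⁻¹ * p)⁻¹) * v⁻¹ := by group
          _ = v * x * v⁻¹ := by rw [h.cP_comm hu hu' hd hx, mul_inv_cancel_right]
    intro x hx y hy hx1 hy1
    have mem : ∀ z ∈ T, z ≠ 1 → (z : MulAut (A.subgroupOf N)) = f ⟨v, hPN hv⟩ := by
      intro z hz hz1
      obtain ⟨p, hp, rfl⟩ := hz
      rcases key p hp with e | e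
      · exact absurd (Subtype.ext e) hz1
      · exact e
    exact Subtype.ext ((mem x hx hx1).trans (mem y hy hy1).symm)
  have hvN : v ∈ N := hPN hv
  have hwN : w ∈ N := mul_mem (mul_mem hn hvN) (inv_mem hn)
  have hinv : ∀ (z : G) (hz : z ∈ N), (∀ x ∈ A, z * z * x * (z * z)⁻¹ = x) →
      (∃ x ∈ A, z * x * z⁻¹ ≠ x) → orderOf (f.rangeRestrict ⟨z, hz⟩) = 2 := by
    intro z hz h2 hne
    rw [invol_iff]
    refine ⟨Subtype.ext ?_, fun e => ?_⟩
    · show f ⟨z, hz⟩ * f ⟨z, hz⟩ = 1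
      rw [← map_mul, ← map_one f, feq]
      intro x hx
      simpa using h2 x hx
    · obtain ⟨x, hx, hxne⟩ := hne
      have e' : f ⟨z, hz⟩ = f 1 := by rw [map_one]; exact congrArg Subtype.val e
      exact hxne (by simpa using (feq _ _).1 e' x hx)
  have hvv : ∀ x ∈ A, v * v * x * (v * v)⁻¹ = x := fun x hx => by
    rw [← h.central _ (h.sq v hv) x (cP_le hx), mul_inv_cancel_right]
  have hov : orderOf (f.rangeRestrict ⟨v, hvN⟩) = 2 := hinv v hvN hvv
    ⟨u, h.self_mem_cP hu, fun e => hu' ((h.fixed_iff hu hu' hv hv' (h.self_mem_cP hu)).1 e)⟩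
  have how : orderOf (f.rangeRestrict ⟨w, hwN⟩) = 2 := by
    refine hinv w hwN (fun x hx => ?_) ⟨n * u * n⁻¹, conj_mem hn (h.self_mem_cP hu), fun e => hu' ?_⟩
    · rw [hw, show n * v * n⁻¹ * (n * v * n⁻¹) * x * (n * v * n⁻¹ * (n * v * n⁻¹))⁻¹ =
        n * (v * v * (n⁻¹ * x * n) * (v * v)⁻¹) * n⁻¹ by group, hvv _ (conj_mem' hn hx)]
      group
    · refine (h.fixed_iff hu hu' hv hv' (h.self_mem_cP hu)).1 ?_
      calc v * u * v⁻¹ = n⁻¹ * (w * (n * u * n⁻¹) * w⁻¹) * n := by rw [hw]; group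
        _ = u := by rw [e]; group
  have hvc : v * c * v⁻¹ = c := (h.fixed_iff hu hu' hv hv' hcA).2 h.c_mem
  have hwc' : w * c' * w⁻¹ = c' := by
    rw [hw, hc', show n * v * n⁻¹ * (n * c * n⁻¹) * (n * v * n⁻¹)⁻¹ = n * (v * c * v⁻¹) * n⁻¹ by group,
      hvc]
  -- if each fixes the other's centre they act equally
  have heq : v * c' * v⁻¹ = c' → w * c * w⁻¹ = c →
      c' = c ∧ ∀ x ∈ A, w * x * w⁻¹ = v * x * v⁻¹ := by
    intro e1 e2
    have hcomm : Commute (f.rangeRestrict ⟨v, hvN⟩) (f.rangeRestrict ⟨w, hwN⟩) := by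
      refine Subtype.ext ?_
      show f ⟨v, hvN⟩ * f ⟨w, hwN⟩ = f ⟨w, hwN⟩ * f ⟨v, hvN⟩
      rw [← map_mul, ← map_mul, feq]
      intro x hx
      have l : ∀ a b y : G, (a * b) * y * (a * b)⁻¹ = a * (b * y * b⁻¹) * a⁻¹ := fun a b y => by group
      have m : ∀ a y z : G, a * (y * z) * a⁻¹ = (a * y * a⁻¹) * (a * z * a⁻¹) := fun a y z => by group
      show (v * w) * x * (v * w)⁻¹ = (w * v) * x * (w * v)⁻¹
      rw [l v w x, l w v x]
      have hcc' : c * c' = c' * c := h.cP_comm hu hu' hcA hc'A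
      have aw : w * x * w⁻¹ = x ∨ w * x * w⁻¹ = c' * x :=
        (h.act_w hu hu' hv hv' hn hx).imp And.right And.right
      have mv : ∀ y z, v * (y * z) * v⁻¹ = (v * y * v⁻¹) * (v * z * v⁻¹) := m v
      have mw : ∀ y z, w * (y * z) * w⁻¹ = (w * y * w⁻¹) * (w * z * w⁻¹) := m w
      rcases h.act_v hu hu' hv hv' hx with ⟨-, a⟩ | ⟨-, a⟩ <;> rcases aw with b | b
      · rw [b, a, b]
      · rw [b, mv, e1, a, b]
      · rw [b, a, mw, e2, b]
      · rw [b, mv, e1, a, mw, e2, b, ← mul_assoc, ← mul_assoc, hcc']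
    have e := Subtype.ext_iff.1 (eq_of_commute_invol T hT hov how hcomm)
    have hx : ∀ x ∈ A, w * x * w⁻¹ = v * x * v⁻¹ := fun x hx => ((feq _ _).1 e x hx).symm
    refine ⟨?_, hx⟩
    have h2 := hx u (h.self_mem_cP hu)
    rw [((h.act_v hu hu' hv hv' (h.self_mem_cP hu)).resolve_left fun k => hu' k.1).2] at h2
    rcases h.act_w hu hu' hv hv' hn (h.self_mem_cP hu) with ⟨-, b⟩ | ⟨-, b⟩
    · rw [show w * u * w⁻¹ = u from b] at h2; exact absurd (right_eq_mul.1 h2 : c = 1) h.c_ne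
    · rw [show w * u * w⁻¹ = c' * u from b] at h2; exact mul_right_cancel h2
  -- the product has odd order
  have hodd := odd_orderOf_mul T hT hov how
  have hswap : ∀ p q : G, p ∈ A → v * w * p * (v * w)⁻¹ = q → v * w * q * (v * w)⁻¹ = p → p = q := by
    intro p q hp h1 h2
    obtain ⟨i, hi⟩ := hodd
    have h3 : f (⟨v, hvN⟩ * ⟨w, hwN⟩) ^ (2 * i + 1) = 1 := by
      rw [← hi, map_mul]
      exact congrArg Subtype.val
        (pow_orderOf_eq_one (f.rangeRestrict ⟨v, hvN⟩ * f.rangeRestrict ⟨w, hwN⟩))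
    rw [← map_pow, ← map_one f, feq] at h3
    have h4 := h3 p hp
    rw [OneMemClass.coe_one, one_mul, inv_one, mul_one, SubmonoidClass.coe_pow, Subgroup.coe_mul] at h4
    rw [swap_pow h1 h2 i] at h4
    exact h4.symm
  have l : ∀ a b y : G, (a * b) * y * (a * b)⁻¹ = a * (b * y * b⁻¹) * a⁻¹ := fun a b y => by group
  have m : ∀ a y z : G, a * (y * z) * a⁻¹ = (a * y * a⁻¹) * (a * z * a⁻¹) := fun a y z => by group
  rcases h.act_v hu hu' hv hv' hc'A with ⟨hz, e1⟩ | ⟨hz, e1⟩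
  · rcases (h.act_w hu hu' hv hv' hn hcA).imp And.right And.right with
      (e2 : w * c * w⁻¹ = c) | (e2 : w * c * w⁻¹ = c' * c)
    · obtain ⟨r1, r2⟩ := heq e1 e2
      exact Or.inl ⟨r1, r2⟩
    · -- `w c = c' c`, `v c' = c'`
      exfalso
      refine hc'1 ?_
      have := hswap c (c' * c) hcA (by rw [l, e2, m, e1, hvc])
        (by rw [l, m w, hwc', e2, ← mul_assoc c' c' c, hc'2, one_mul, hvc])
      exact right_eq_mul.1 this
  · rcases (h.act_w hu hu' hv hv' hn hcA).imp And.right And.right with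
      (e2 : w * c * w⁻¹ = c) | (e2 : w * c * w⁻¹ = c' * c)
    · -- `w c = c`, `v c' = c c'`
      exfalso
      refine h.c_ne ?_
      have := hswap c' (c * c') hc'A (by rw [l, hwc', e1])
        (by rw [l, m w, hwc', e2, m v, e1, hvc, ← mul_assoc c c c', h.c_sq, one_mul])
      exact right_eq_mul.1 this
    · exact Or.inr ⟨fun e => hz (e ▸ h.c_mem), hz, e2⟩

/-- An element of `N(A)` fixing `c` preserves `Z`. -/
theorem fix_norm {n x : G} (hn : n ∈ normalizer (cP P u : Set G)) (hc : n * c * n⁻¹ = c)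
    (hx : x ∈ cP P u) : n⁻¹ * x * n ∈ Z ↔ x ∈ Z := by
  have key := ((h.conj_c hu hu' hv hv' hn).resolve_right fun k => k.1 hc).2 x hx
  rw [← h.fixed_iff hu hu' hv hv' hx, ← key]
  rcases h.act_w hu hu' hv hv' hn hx with ⟨a, b⟩ | ⟨a, b⟩
  · exact iff_of_true a b
  · refine iff_of_false a fun e => h.c_ne ?_
    rw [b, hc] at e
    exact mul_eq_right.1 e

/-- An element of `N(A)` fixing `c` acts on `A` as an element of `N(P)`. -/
theorem exists_normalizer_P {m : G} (hm : m ∈ normalizer (cP P u : Set G)) (hc : m * c * m⁻¹ = c) :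
    ∃ k ∈ normalizer ((P : Subgroup G) : Set G), ∀ x ∈ cP P u, k * x * k⁻¹ = m * x * m⁻¹ := by
  haveI : Fact (Nat.Prime 2) := ⟨Nat.prime_two⟩
  set A := cP P u with hA
  have key := ((h.conj_c hu hu' hv hv' hm).resolve_right fun k => k.1 hc).2
  set K := centralizer (A : Set G) with hK
  have hle : (P : Subgroup G) ≤ normalizer (K : Set G) := by
    intro p hp
    refine conjBy_eq_iff.1 (conjBy_eq_of_le (conjBy_le_iff.2 fun x hx => ?_))
    refine mem_centralizer_iff.2 fun a ha => ?_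
    have ha' : p⁻¹ * a * p ∈ A := conj_mem' (h.mem_normalizer_of_P hu hp) ha
    have := mem_centralizer_iff.1 hx _ ha'
    calc a * (p * x * p⁻¹) = p * ((p⁻¹ * a * p) * x) * p⁻¹ := by group
      _ = p * (x * (p⁻¹ * a * p)) * p⁻¹ := by rw [this]
      _ = p * x * p⁻¹ * a := by group
  set M := (P : Subgroup G) ⊔ K with hM
  have hPM : conjBy m (P : Subgroup G) ≤ M := by
    refine conjBy_le_iff.2 fun p hp => ?_
    have inA : ∀ a ∈ A, m * a * m⁻¹ ∈ M := fun a ha =>
      mem_sup_left (cP_le (conj_mem hm ha))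
    by_cases hpA : p ∈ A
    · exact inA p hpA
    have hd := h.inv_mul_mem hu hu' hp hv hpA hv'
    have e : m * p * m⁻¹ = v * (v⁻¹ * (m * v * m⁻¹)) * (m * (v⁻¹ * p) * m⁻¹) := by group
    rw [e]
    refine mul_mem (mul_mem (mem_sup_left hv) (mem_sup_right ?_)) (inA _ hd)
    refine mem_centralizer_iff.2 fun a ha => ?_
    have k := key a ha
    calc a * (v⁻¹ * (m * v * m⁻¹)) = v⁻¹ * (v * a * v⁻¹) * (m * v * m⁻¹) := by group
      _ = v⁻¹ * (m * v * m⁻¹) * a := by rw [← k]; group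
  have hi : ¬ 2 ∣ (P : Subgroup G).relIndex M := fun hd =>
    P.not_dvd_index (hd.trans (relIndex_dvd_index_of_le le_sup_left))
  obtain ⟨g, hg, hle'⟩ := exists_conj_le_of_not_dvd_relIndex P.2 le_sup_left hi
    (isPGroup_conjBy m P.2) hPM
  have hg' : g ∈ ((P : Subgroup G) : Set G) * (K : Set G) := by
    rw [← coe_mul_of_left_le_normalizer_right _ _ hle]; exact hg
  obtain ⟨p, hp, q, hq, rfl⟩ := hg'
  refine ⟨q * m, ?_, fun x hx => ?_⟩
  · rw [conjBy_conjBy] at hle'
    have e : conjBy (p * q * m) (P : Subgroup G) = (P : Subgroup G) :=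
      eq_of_le_of_card_ge hle' (card_conjBy _ _).ge
    have hmem := conjBy_eq_iff.1 e
    have : q * m = p⁻¹ * (p * q * m) := by group
    rw [this]
    exact mul_mem (inv_mem (le_normalizer hp)) hmem
  · have := mem_centralizer_iff.1 hq _ (conj_mem hm hx)
    calc q * m * x * (q * m)⁻¹ = q * (m * x * m⁻¹) * q⁻¹ := by group
      _ = m * x * m⁻¹ := by rw [← this, mul_inv_cancel_right]

end Frame

end CfsgLib.QuasiFour.Simple
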